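import Cfsg.Agent.H940.EngData
import Cfsg.Agent.H940.EngLoc
import Cfsg.Agent.H839.ElevenMain
import Cfsg.Agent.H839.Thirteen
import Cfsg.Agent.H839.SeventeenMain
import Cfsg.Agent.H713.Spor.Fi23
import Cfsg.Agent.S1697

/-!
# Row `Fi23` of S5906/S5907 (helper961)

The normalizers of the Sylow subgroups for 11, 13, 17, 23 and the centralizer `2.Fi22` of a transposition.
-/

set_option autoImplicit false
set_option maxRecDepth 100000

namespace Cfsg.Agent.H961.SepFi23

open Subgroup

abbrev G : Type := Cfsg.Spor.Fi23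

section data

theorem card_conj_eq {X R : Subgroup G} (h : ∃ g : G, X.map (MulAut.conj g).toMonoidHom = R) :
    Nat.card (centralizer (X : Set G)) = Nat.card (centralizer (R : Set G)) ∧
      Nat.card (normalizer (X : Set G)) = Nat.card (normalizer (R : Set G)) := by
  obtain ⟨g, rfl⟩ := h
  constructor
  · have h1 := Cfsg.Agent.H838.Transport.map_centralizer (MulAut.conj g) (X : Set G)
    have h2 : ((X.map (MulAut.conj g).toMonoidHom : Subgroup G) : Set G) = (MulAut.conj g) '' (X : Set G) := rfl
    rw [h2, ← h1]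
    exact (Nat.card_congr ((MulAut.conj g).subgroupMap _).toEquiv)
  · rw [← Cfsg.Agent.H838.Transport.map_normalizer (MulAut.conj g) X]
    exact (Nat.card_congr ((MulAut.conj g).subgroupMap _).toEquiv)

open Cfsg Cfsg.Agent.Lib.PermNet Cfsg.Agent.Fischer.Fi23Hom Cfsg.Agent.LThreeFi23
open Cfsg.Agent.H839 Cfsg.Agent.H839.Fi23
open Cfsg.Agent.H838.Fi23 (SL)

theorem data11 {R : Subgroup G} (hR : Nat.card R = 11) :
    Nat.card (centralizer (R : Set G)) ∣ 88 ∧ Nat.card (normalizer (R : Set G)) = 440 := by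
  obtain ⟨h1, h2⟩ := card_conj_eq (conj_all11 X11 R card_X11 hR)
  rw [← h1, ← h2]
  refine ⟨?_, card_N11⟩
  by_cases h : ∃ w ∈ centralizer (X11 : Set G), rho w 0 = 18119
  · obtain ⟨w, hw, hw0⟩ := h
    have h1 := index_two_pts (A := centralizer (X11 : Set G))
      (fun w hw p hp => norm_fix (centralizer_le_normalizer _ hw) hp) hw hw0
    rw [Count.card_of_index_two inf_le_left h1, card_C0]
  · have h2 : centralizer (X11 : Set G) ⊓ centralizer ({el .z} : Set G) = centralizer (X11 : Set G) := by
      rw [inf_eq_left]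
      intro w hw
      rw [mem_cz]
      rcases norm_fix (centralizer_le_normalizer _ hw) (Or.inl rfl) with h1 | h1
      · exact h1
      · exact absurd ⟨w, hw, h1⟩ h
    rw [← h2, card_C0]
    norm_num

theorem data13 {R : Subgroup G} (hR : Nat.card R = 13) :
    Nat.card (centralizer (R : Set G)) = 78 ∧ Nat.card (normalizer (R : Set G)) = 468 := by
  obtain ⟨h1, h2⟩ := card_conj_eq (conj_all13 (zpowers (elw y13)) R card_y13 hR)
  rw [← h1, ← h2]
  have hSy : ∀ x ∈ SL L3, x * elw y13 = elw y13 * x := fun x hx => (S3_comm_y13 hx).symm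
  have hcard := FrobGen.card_cent (by norm_num : Nat.Prime 13) pow13 y13_ne hSy (fun w hw => cent13 hw) y13_pow_S3
  rw [card_S3] at hcard
  refine ⟨hcard, ?_⟩
  obtain ⟨e, n, he, k1, k2, k3⟩ := Count.card_normalizer (p := 13) (c := 78) (by norm_num) card_y13
    (by rw [card_G]; norm_num) hcard
  rw [k1]
  rw [card_G] at k3
  have k4 : n % 13 = 1 := k2
  have k5 : e ≤ 12 := Nat.le_of_dvd (by norm_num) he
  have k6 : e ≠ 0 := by rintro rfl; norm_num at k3
  interval_cases e <;> omega

theorem data17 {R : Subgroup G} (hR : Nat.card R = 17) :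
    Nat.card (centralizer (R : Set G)) = 17 ∧ Nat.card (normalizer (R : Set G)) = 272 := by
  obtain ⟨h1, h2⟩ := seventeen_main R hR
  exact ⟨by rw [h2, hR], h1⟩

theorem data23 {R : Subgroup G} (hR : Nat.card R = 23) :
    Nat.card (centralizer (R : Set G)) = 23 ∧ Nat.card (normalizer (R : Set G)) = 253 := by
  obtain ⟨h1, h2⟩ := twentythree_main R hR
  exact ⟨by rw [h2, hR], h1⟩

/-- the centralizer of a transposition -/
theorem exists_cent : ∃ A : Subgroup G, Nat.card A = 129123503308800 :=
  ⟨_, Cfsg.Agent.H713.Spor.Fi23.card_z0⟩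

end data

open Cfsg.Agent.OrdDiv Cfsg.Agent.H940 Cfsg.Agent.H940.Eng Cfsg.Agent.H940.Eng.D Cfsg.Agent.H940.MaxCls

/-- the local data: the prime `r`, a multiple of `|C(R)|`, the factorization of a multiple of `|N(R)|` -/
def loc : List LD := [⟨11, 88, [(2, 3), (5, 1), (11, 1)]⟩, ⟨13, 78, [(2, 2), (3, 2), (13, 1)]⟩,
  ⟨17, 17, [(2, 4), (17, 1)]⟩, ⟨23, 23, [(11, 1), (23, 1)]⟩]

theorem simple : IsSimpleGroup G := Cfsg.Agent.S1697.result.1
theorem card : Nat.card G = n_fi23 := Cfsg.Agent.S1697.result.2
theorem fin : Finite G := Nat.finite_of_card_ne_zero (by rw [card]; decide)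

theorem ctx (B : Base) : Ctx G l_fi23 n_fi23 o_fi23 loc where
  fin := fin
  simple := simple
  card := card
  val := v_fi23
  nodup := nd_fi23
  ords := ords_fi23 B
  loc := by
    have := fin
    have := simple
    intro ld hld
    simp only [loc, List.mem_cons, List.not_mem_nil, or_false] at hld
    rcases hld with rfl | rfl | rfl | rfl
    · exact loc_of_eq card (by decide +kernel) (by decide +kernel) (by decide +kernel) fun R hR => by
        obtain ⟨h1, h2⟩ := data11 hR
        rw [h2]; exact ⟨h1, by decide⟩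
    · exact loc_of_eq card (by decide +kernel) (by decide +kernel) (by decide +kernel) fun R hR => by
        obtain ⟨h1, h2⟩ := data13 hR
        rw [h1, h2]; decide
    · exact loc_of_eq card (by decide +kernel) (by decide +kernel) (by decide +kernel) fun R hR => by
        obtain ⟨h1, h2⟩ := data17 hR
        rw [h1, h2]; decide
    · exact loc_of_eq card (by decide +kernel) (by decide +kernel) (by decide +kernel) fun R hR => by
        obtain ⟨h1, h2⟩ := data23 hR
        rw [h1, h2]; decide

/-- the row `Fi23` -/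
theorem five (B : Base) : Sep 5 G := by
  have c := ctx B
  have := c.fin
  have := c.simple
  have hc := card
  obtain ⟨R11, h11⟩ := exists_card_eq (G := G) (r := 11) (by decide +kernel) (by rw [hc]; decide +kernel)
  obtain ⟨R13, h13⟩ := exists_card_eq (G := G) (r := 13) (by decide +kernel) (by rw [hc]; decide +kernel)
  obtain ⟨R17, h17⟩ := exists_card_eq (G := G) (r := 17) (by decide +kernel) (by rw [hc]; decide +kernel)
  obtain ⟨R23, h23⟩ := exists_card_eq (G := G) (r := 23) (by decide +kernel) (by rw [hc]; decide +kernel)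
  obtain ⟨A, hA⟩ := exists_cent
  have c11 := (data11 h11).2
  have c13 := (data13 h13).2
  have c17 := (data17 h17).2
  have c23 := (data23 h23).2
  have ne : ∀ {R : Subgroup G} {k : ℕ}, Nat.card R = k → (k != n_fi23) = true → R ≠ ⊤ := by
    intro R k h1 h2 h3
    rw [h3, card_top, hc] at h1
    rw [bne_iff_ne] at h2
    exact h2 h1.symm
  have f11 : ∀ p ∈ [11], Full p (normalizer (R11 : Set G)) := by
    intro p hp; rw [List.mem_singleton.1 hp]
    exact full_of_card hc (by decide +kernel) (by decide +kernel) h11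
  have f13 : ∀ p ∈ [13], Full p (normalizer (R13 : Set G)) := by
    intro p hp; rw [List.mem_singleton.1 hp]
    exact full_of_card hc (by decide +kernel) (by decide +kernel) h13
  have f17 : ∀ p ∈ [17], Full p (normalizer (R17 : Set G)) := by
    intro p hp; rw [List.mem_singleton.1 hp]
    exact full_of_card hc (by decide +kernel) (by decide +kernel) h17
  have f23 : ∀ p ∈ [23], Full p (normalizer (R23 : Set G)) := by
    intro p hp; rw [List.mem_singleton.1 hp]
    exact full_of_card hc (by decide +kernel) (by decide +kernel) h23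
  have f0 : ∀ p ∈ ([] : List ℕ), Full p A := fun p hp => absurd hp List.not_mem_nil
  exact sep_five (ne c11 (by decide +kernel)) (ne c13 (by decide +kernel)) (ne c17 (by decide +kernel))
    (ne c23 (by decide +kernel)) (ne hA (by decide +kernel))
    (c.apart c11.symm.dvd c13.symm.dvd [(2, 15), (3, 11), (5, 1), (7, 1), (17, 1), (23, 1)] _ _ 60 f11 f13 (by decide +kernel))
    (c.apart c11.symm.dvd c17.symm.dvd [(2, 14), (3, 13), (5, 1), (7, 1), (13, 1), (23, 1)] _ _ 60 f11 f17 (by decide +kernel))
    (c.apart c11.symm.dvd c23.symm.dvd [(2, 15), (3, 13), (5, 1), (7, 1), (13, 1), (17, 1)] _ _ 60 f11 f23 (by decide +kernel))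
    (c.apart c11.symm.dvd hA.symm.dvd [(3, 4), (17, 1), (23, 1)] _ _ 60 f11 f0 (by decide +kernel))
    (c.apart c13.symm.dvd c17.symm.dvd [(2, 14), (3, 11), (5, 2), (7, 1), (11, 1), (23, 1)] _ _ 60 f13 f17 (by decide +kernel))
    (c.apart c13.symm.dvd c23.symm.dvd [(2, 16), (3, 11), (5, 2), (7, 1), (17, 1)] _ _ 60 f13 f23 (by decide +kernel))
    (c.apart c13.symm.dvd hA.symm.dvd [(3, 4), (17, 1), (23, 1)] _ _ 60 f13 f0 (by decide +kernel))
    (c.apart c17.symm.dvd c23.symm.dvd [(2, 14), (3, 13), (5, 2), (7, 1), (13, 1)] _ _ 60 f17 f23 (by decide +kernel))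
    (c.apart c17.symm.dvd hA.symm.dvd [(3, 4), (23, 1)] _ _ 60 f17 f0 (by decide +kernel))
    (c.apart c23.symm.dvd hA.symm.dvd [(3, 4), (17, 1)] _ _ 60 f23 f0 (by decide +kernel))

end Cfsg.Agent.H961.SepFi23
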