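import Cfsg.Agent.CpAut.TwoCov
import Cfsg.Agent.H459.Rad

/-!
# Groups with a central element `w` of order 7 and an involution `z` alone in its centralizer (helper961)

`struct` : `C_D(z) / ⟨w, z⟩` simple of order divisible by 5, `7 ^ 6` divides `|D|` exactly: `Q = O_7(D)` has order `7 ^ 5`,
`[Q, Q] ≤ ⟨w⟩`, `D` is irreducible on `Q / ⟨w⟩` and `Q` contains all the 7-elements of the solvable radical of `D`.
-/

set_option autoImplicit false

namespace Cfsg.Agent.H961.SevD

open Subgroup Cfsg Cfsg.Agent.H459.Rad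

section Fix

variable {H : Type*} [Group H] [Finite H]

/-- fixed points of an element `f`, `f ^ 5 = 1`, on a normal subgroup -/
theorem card_fix_mod {f : H} (hf : f ^ 5 = 1) (B : Subgroup H) [hB : B.Normal] :
    Nat.card ↥(B ⊓ centralizer ({f} : Set H)) ≡ Nat.card ↥B [MOD 5] := by
  have h5 : Fact (Nat.Prime 5) := ⟨by norm_num⟩
  let act : MulAction ↥(zpowers f) ↥B :=
    MulAction.compHom ↥B ((MulAut.conjNormal (H := B)).comp (zpowers f).subtype)
  have hp : IsPGroup 5 ↥(zpowers f) := by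
    rintro ⟨_, k, rfl⟩
    refine ⟨1, Subtype.ext ?_⟩
    change (f ^ k) ^ 5 ^ 1 = 1
    rw [pow_one, ← zpow_natCast, ← zpow_mul, mul_comm, zpow_mul, zpow_natCast, hf, one_zpow]
  have h1 := hp.card_modEq_card_fixedPoints ↥B
  refine (h1.trans ?_).symm
  have h2 : Nat.card ↑(MulAction.fixedPoints ↥(zpowers f) ↥B) = Nat.card ↥(B ⊓ centralizer ({f} : Set H)) := by
    apply Nat.card_congr
    refine
      { toFun := fun b => ⟨b.1.1, b.1.2, ?_⟩
        invFun := fun b => ⟨⟨b.1, b.2.1⟩, ?_⟩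
        left_inv := fun b => rfl
        right_inv := fun b => rfl }
    · have h3 := congrArg Subtype.val (b.2 ⟨f, mem_zpowers f⟩)
      have h4 : f * (b.1 : H) * f⁻¹ = b.1 := h3
      exact mem_centralizer_singleton_iff.2 (mul_inv_eq_iff_eq_mul.1 h4).symm
    · rintro ⟨_, k, rfl⟩
      apply Subtype.ext
      change f ^ k * (b.1 : H) * (f ^ k)⁻¹ = b.1
      have h3 : Commute (b.1 : H) f := mem_centralizer_singleton_iff.1 b.2.2
      rw [mul_inv_eq_iff_eq_mul]
      exact ((h3.zpow_right k).eq).symm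
  rw [h2]

/-- `f` of order 5 acts without fixed points or trivially on a normal subgroup of order `7 ^ 4`, and centralises the smaller
ones -/
theorem fix_cases {f : H} (hf : f ^ 5 = 1) (B : Subgroup H) [B.Normal] {a : ℕ} (ha : Nat.card ↥B = 7 ^ a) (h4 : a ≤ 4) :
    (∀ b ∈ B, b * f = f * b) ∨ (a = 4 ∧ ∀ b ∈ B, b * f = f * b → b = 1) := by
  have h7 : Nat.Prime 7 := by norm_num
  have h1 := card_fix_mod hf B
  have h2 : Nat.card ↥(B ⊓ centralizer ({f} : Set H)) ∣ 7 ^ a := ha ▸ card_dvd_of_le inf_le_left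
  obtain ⟨c, hc, hcc⟩ := (Nat.dvd_prime_pow h7).1 h2
  rw [hcc, ha] at h1
  have h3 : c = a ∨ (a = 4 ∧ c = 0) := by
    unfold Nat.ModEq at h1
    interval_cases a <;> interval_cases c <;> simp_all
  rcases h3 with h3 | ⟨h3, h5⟩
  · left
    have h6 : B ⊓ centralizer ({f} : Set H) = B := by
      apply eq_of_le_of_card_ge inf_le_left
      rw [ha, hcc, h3]
    intro b hb
    rw [← h6] at hb
    exact mem_centralizer_singleton_iff.1 hb.2
  · right
    refine ⟨h3, fun b hb hbf => ?_⟩
    rw [h5, pow_zero] at hcc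
    have h6 := Subgroup.card_eq_one.1 hcc
    have h7 : b ∈ B ⊓ centralizer ({f} : Set H) := ⟨hb, mem_centralizer_singleton_iff.2 hbf⟩
    rwa [h6, mem_bot] at h7

end Fix

section Main

variable {D : Type*} [Group D] [Finite D]

omit [Finite D] in
theorem normal_of_central {w : D} (hwc : ∀ d, d * w = w * d) : (zpowers w).Normal := by
  refine ⟨?_⟩
  rintro _ ⟨k, rfl⟩ g
  have h1 : Commute g w := hwc g
  change g * w ^ k * g⁻¹ ∈ _
  rw [(h1.zpow_right k).eq, mul_inv_cancel_right]
  exact zpow_mem (mem_zpowers w) k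

/-- the structure of `D` -/
theorem struct {w z : D} (hw : orderOf w = 7) (hwc : ∀ d, d * w = w * d) (hz : orderOf z = 2)
    (hu : ∀ s : D, s * s = 1 → s * z = z * s → s = 1 ∨ s = z)
    {A : Type*} [Group A] [Finite A] [IsSimpleGroup A] (hA : ¬ IsMulCommutative A) (h2A : 2 ∣ Nat.card A)
    (h5A : 5 ∣ Nat.card A) (h7A : 7 ∣ Nat.card A) {C0 : Subgroup D} (hC0 : C0 = centralizer ({z} : Set D))
    (ρ : ↥C0 →* A) (hρ : Function.Surjective ρ) (hk' : ∀ u : ↥C0, ρ u = 1 → ∃ i j : ℤ, (u : D) = w ^ i * z ^ j)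
    (h3 : ¬ 7 ^ 3 ∣ Nat.card ↥C0) (h6 : 7 ^ 6 ∣ Nat.card D) (h7 : ¬ 7 ^ 7 ∣ Nat.card D) :
    ∃ Q : Subgroup D, Q.Normal ∧ IsPGroup 7 ↥Q ∧ w ∈ Q ∧ (∀ a ∈ Q, ∀ b ∈ Q, a * b * a⁻¹ * b⁻¹ ∈ zpowers w) ∧
      Nat.card ↥Q = 7 ^ 5 ∧ (∀ x ∈ solvableRadical D, (∃ k : ℕ, x ^ 7 ^ k = 1) → x ∈ Q) ∧
      (∀ U : Subgroup D, U.Normal → w ∈ U → U ≤ Q → U ≠ zpowers w → U = Q) := by
  have hp7 : Nat.Prime 7 := by norm_num
  have hF7 : Fact (Nat.Prime 7) := ⟨hp7⟩
  have hWn := normal_of_central hwc
  have hzz : z * z = 1 := by rw [← pow_two, ← hz, pow_orderOf_eq_one]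
  have hz1 : z ≠ 1 := by
    intro h
    rw [h, orderOf_one] at hz
    norm_num at hz
  have hw1 : w ≠ 1 := by
    intro h
    rw [h, orderOf_one] at hw
    norm_num at hw
  have hw7 : w ^ 7 = 1 := by rw [← hw, pow_orderOf_eq_one]
  have hzi : z⁻¹ = z := inv_eq_of_mul_eq_one_left hzz
  obtain ⟨N, hN, hodd, hsup⟩ := CpAut.TwoCov.exists_odd_sup hz hu
  rw [← hC0] at hsup
  have hmC : ∀ g : D, g ∈ C0 ↔ g * z = z * g := fun g => by rw [hC0]; exact mem_centralizer_singleton_iff
  obtain ⟨N1, hN1⟩ : ∃ N1, N1 = N ⊔ zpowers w := ⟨_, rfl⟩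
  have hN1n : N1.Normal := by rw [hN1]; infer_instance
  have hwN : w ∈ N1 := by rw [hN1]; exact mem_sup_right (mem_zpowers w)
  have hWle : zpowers w ≤ N1 := zpowers_le.2 hwN
  have hN1o : Odd (Nat.card ↥N1) := by
    have h1 : Nat.card ↥N1 ∣ Nat.card ↥N * 7 := by
      have e : N.relIndex N1 ∣ 7 := by
        have h2 : N.relIndex (zpowers w ⊔ N) = N.relIndex (zpowers w) := relIndex_sup_right (zpowers w) N
        rw [sup_comm, ← hN1] at h2
        rw [h2, ← hw, ← Nat.card_zpowers]
        exact relIndex_dvd_card N (zpowers w)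
      have hle : N ≤ N1 := by rw [hN1]; exact le_sup_left
      rw [← relIndex_bot_left, ← relIndex_mul_relIndex ⊥ N N1 bot_le hle, relIndex_bot_left]
      exact Nat.mul_dvd_mul_left _ e
    exact Odd.of_dvd_nat (hodd.mul (by decide)) h1
  have hsup1 : N1 ⊔ C0 = ⊤ := by
    rw [eq_top_iff, ← hsup, hN1]
    exact sup_le_sup_right le_sup_left _
  have hzN : z ∉ N1 := by
    intro h
    have h1 : orderOf (⟨z, h⟩ : ↥N1) ∣ Nat.card ↥N1 := orderOf_dvd_natCard _
    rw [Subgroup.orderOf_mk, hz] at h1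
    exact (Nat.not_even_iff_odd.2 hN1o) (even_iff_two_dvd.2 h1)
  have hzC : z ∈ C0 := (hmC z).2 rfl
  have hwC : w ∈ C0 := (hmC w).2 (hwc z).symm
  -- fixed points of `z` on `N1`
  have hfix : ∀ n ∈ N1, n * z = z * n → n ∈ zpowers w := by
    intro n hn hnz
    have hnC : n ∈ C0 := (hmC n).2 hnz
    have hMn : ((N1.subgroupOf C0).map ρ).Normal := Normal.map inferInstance ρ hρ
    have h1 : ρ ⟨n, hnC⟩ = 1 := by
      rcases hMn.eq_bot_or_eq_top with h2 | h2
      · have h3 : ρ ⟨n, hnC⟩ ∈ (N1.subgroupOf C0).map ρ := mem_map_of_mem _ (mem_subgroupOf.2 hn)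
        rwa [h2, mem_bot] at h3
      · exfalso
        have h3 : Nat.card ↥((N1.subgroupOf C0).map ρ) ∣ Nat.card ↥(N1.subgroupOf C0) := card_map_dvd _ ρ
        rw [h2, card_top] at h3
        have h4 : Nat.card ↥(N1.subgroupOf C0) ∣ Nat.card ↥N1 := by
          rw [← card_map_of_injective (f := C0.subtype) C0.subtype_injective]
          exact card_dvd_of_le (by rw [subgroupOf_map_subtype]; exact inf_le_left)
        exact (Nat.not_even_iff_odd.2 hN1o) (even_iff_two_dvd.2 ((h2A.trans h3).trans h4))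
    obtain ⟨i, j, hij⟩ := hk' _ h1
    have hij' : n = w ^ i * z ^ j := hij
    have h2 : z ^ j ∈ N1 := by
      have : z ^ j = (w ^ i)⁻¹ * n := by rw [hij']; group
      rw [this]
      exact N1.mul_mem (N1.inv_mem (N1.zpow_mem hwN i)) hn
    rcases Int.even_or_odd' j with ⟨m, hm | hm⟩
    · have h3 : z ^ j = 1 := by
        rw [hm, zpow_mul]
        have : z ^ (2 : ℤ) = 1 := by rw [show (2 : ℤ) = ((2 : ℕ) : ℤ) by rfl, zpow_natCast, pow_two, hzz]
        rw [this, one_zpow]
      rw [hij', h3, mul_one]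
      exact zpow_mem (mem_zpowers w) i
    · exfalso
      have h3 : z ^ j = z := by
        rw [hm, zpow_add, zpow_mul, zpow_one]
        have : z ^ (2 : ℤ) = 1 := by rw [show (2 : ℤ) = ((2 : ℕ) : ℤ) by rfl, zpow_natCast, pow_two, hzz]
        rw [this, one_zpow, one_mul]
      rw [h3] at h2
      exact hzN h2
  -- `z` inverts `N1 / ⟨w⟩`
  let π := QuotientGroup.mk' (zpowers w)
  have hπ : Function.Surjective π := QuotientGroup.mk'_surjective _
  have hπk : ∀ g, π g = 1 ↔ g ∈ zpowers w := fun g => QuotientGroup.eq_one_iff g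
  let B := N1.map π
  have hBn : B.Normal := hN1n.map π hπ
  have hfp : MonoidHom.FixedPointFree (MulAut.conjNormal (H := B) (π z)) := by
    rintro ⟨_, n, hn, rfl⟩ hb
    have h1 : π z * π n * (π z)⁻¹ = π n := congrArg Subtype.val hb
    -- `z n z⁻¹ = n w ^ i`
    have h2 : n⁻¹ * (z * n * z⁻¹) ∈ zpowers w := by
      rw [← hπk, map_mul, map_mul, map_mul, map_inv, map_inv, h1, inv_mul_cancel]
    obtain ⟨i, hi⟩ := mem_zpowers_iff.1 h2
    have h3 : z * n * z⁻¹ = n * w ^ i := by rw [hi]; group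
    have h4 : w ^ i * w ^ i = 1 := by
      have e1 : z * (z * n * z⁻¹) * z⁻¹ = n := by
        calc z * (z * n * z⁻¹) * z⁻¹ = (z * z) * n * (z * z)⁻¹ := by group
          _ = n := by rw [hzz]; group
      have e2 : z * (n * w ^ i) * z⁻¹ = n * w ^ i * w ^ i := by
        have e3 : z * w ^ i = w ^ i * z := ((show Commute z w from hwc z).zpow_right i).eq
        calc z * (n * w ^ i) * z⁻¹ = (z * n * z⁻¹) * (z * w ^ i * z⁻¹) := by group
          _ = (n * w ^ i) * (w ^ i * z * z⁻¹) := by rw [h3, e3]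
          _ = n * w ^ i * w ^ i := by group
      rw [h3, e2] at e1
      have e3 : n * (w ^ i * w ^ i) = n := by rw [← mul_assoc]; exact e1
      exact mul_eq_left.1 e3
    have h5 : w ^ i = 1 := by
      have e1 : (w ^ i) ^ 7 = 1 := by
        rw [← zpow_natCast, ← zpow_mul, mul_comm, zpow_mul, zpow_natCast, hw7, one_zpow]
      have e2 : (w ^ i) ^ 2 = 1 := by rw [pow_two, h4]
      have e3 : w ^ i * ((w ^ i) ^ 2) ^ 3 = (w ^ i) ^ 7 := by
        rw [← pow_mul, ← pow_succ']
      rwa [e1, e2, one_pow, mul_one] at e3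
    have h6 : n ∈ zpowers w := by
      apply hfix n hn
      rw [h5, mul_one] at h3
      exact (mul_inv_eq_iff_eq_mul.1 h3).symm
    exact Subtype.ext ((hπk n).2 h6)
  have hinv : Function.Involutive (MulAut.conjNormal (H := B) (π z)) := by
    intro b
    apply Subtype.ext
    change π z * (π z * (b : D ⧸ zpowers w) * (π z)⁻¹) * (π z)⁻¹ = b
    have h1 : π z * π z = 1 := by rw [← map_mul, hzz, map_one]
    calc π z * (π z * (b : D ⧸ zpowers w) * (π z)⁻¹) * (π z)⁻¹ = (π z * π z) * b * (π z * π z)⁻¹ := by group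
      _ = b := by rw [h1]; group
  have hBc : ∀ a ∈ N1, ∀ b ∈ N1, π a * π b = π b * π a := by
    intro a ha b hb
    have h1 := hfp.commute_all_of_involutive hinv ⟨π a, mem_map_of_mem _ ha⟩ ⟨π b, mem_map_of_mem _ hb⟩
    exact congrArg Subtype.val h1
  have hBinv : ∀ a ∈ N1, π (z * a * z⁻¹) = (π a)⁻¹ := by
    intro a ha
    have h1 := congrFun (hfp.coe_eq_inv_of_involutive hinv) ⟨π a, mem_map_of_mem _ ha⟩
    have h2 := congrArg Subtype.val h1
    rw [map_mul, map_mul, map_inv]
    exact h2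
  -- the subgroup `Q`
  let Q : Subgroup D :=
    { carrier := {n | n ∈ N1 ∧ ∃ k : ℕ, π n ^ 7 ^ k = 1}
      one_mem' := ⟨N1.one_mem, 0, by rw [map_one, one_pow]⟩
      mul_mem' := by
        rintro a b ⟨ha, k, hka⟩ ⟨hb, l, hlb⟩
        refine ⟨N1.mul_mem ha hb, k + l, ?_⟩
        rw [map_mul, (show Commute (π a) (π b) from hBc a ha b hb).mul_pow, pow_add, pow_mul, hka, one_pow, one_mul,
          mul_comm, pow_mul, hlb, one_pow]
      inv_mem' := by
        rintro a ⟨ha, k, hka⟩
        exact ⟨N1.inv_mem ha, k, by rw [map_inv, inv_pow, hka, inv_one]⟩ }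
  have hQmem : ∀ n, n ∈ Q ↔ n ∈ N1 ∧ ∃ k : ℕ, π n ^ 7 ^ k = 1 := fun n => Iff.rfl
  have hQle : Q ≤ N1 := fun n hn => hn.1
  have hQ1 : ∀ n ∈ N1, (∃ k : ℕ, n ^ 7 ^ k = 1) → n ∈ Q := by
    rintro n hn ⟨k, hk⟩
    exact ⟨hn, k, by rw [← map_pow, hk, map_one]⟩
  have hQn : Q.Normal := by
    refine ⟨?_⟩
    rintro n ⟨hn, k, hk⟩ g
    refine ⟨hN1n.conj_mem n hn g, k, ?_⟩
    rw [map_mul, map_mul, map_inv, conj_pow, hk, mul_one, mul_inv_cancel]
  have hQp : IsPGroup 7 ↥Q := by
    rintro ⟨n, hn, k, hk⟩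
    refine ⟨k + 1, Subtype.ext ?_⟩
    change n ^ 7 ^ (k + 1) = 1
    rw [← map_pow, hπk] at hk
    obtain ⟨i, hi⟩ := mem_zpowers_iff.1 hk
    rw [pow_succ, pow_mul, ← hi, ← zpow_natCast, ← zpow_mul, mul_comm, zpow_mul, zpow_natCast, hw7, one_zpow]
  have hwQ : w ∈ Q := hQ1 w hwN ⟨1, by rw [pow_one, hw7]⟩
  have hQc : ∀ a ∈ Q, ∀ b ∈ Q, a * b * a⁻¹ * b⁻¹ ∈ zpowers w := by
    intro a ha b hb
    rw [← hπk, map_mul, map_mul, map_mul, map_inv, map_inv, hBc a ha.1 b hb.1]
    group
  -- orders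
  have hcap : Nat.card ↥(N1.subgroupOf C0) = 7 := by
    have h1 : (N1.subgroupOf C0).map C0.subtype = zpowers w := by
      rw [subgroupOf_map_subtype]
      apply le_antisymm
      · rintro n ⟨hn, hnC⟩
        exact hfix n hn ((hmC n).1 hnC)
      · rw [zpowers_le]
        exact ⟨hwN, hwC⟩
    rw [← card_map_of_injective (f := C0.subtype) C0.subtype_injective, h1, Nat.card_zpowers, hw]
  have hcard : Nat.card D * 7 = Nat.card ↥N1 * Nat.card ↥C0 := by
    have h1 : N1.relIndex C0 = N1.index := by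
      have h2 : N1.relIndex (C0 ⊔ N1) = N1.relIndex C0 := relIndex_sup_right C0 N1
      rw [sup_comm, hsup1, relIndex_top_right] at h2
      exact h2.symm
    have h2 : Nat.card ↥(N1.subgroupOf C0) * (N1.subgroupOf C0).index = Nat.card ↥C0 := card_mul_index _
    have h3 : (N1.subgroupOf C0).index = N1.relIndex C0 := rfl
    rw [hcap, h3, h1] at h2
    rw [← N1.card_mul_index, ← h2]
    ring
  have hC049 : 7 ^ 2 ∣ Nat.card ↥C0 := by
    have h1 : Nat.card ↥ρ.ker * Nat.card A = Nat.card ↥C0 := by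
      rw [← ρ.ker.card_mul_index]
      congr 1
      rw [index_ker, MonoidHom.range_eq_top.2 hρ, card_top]
    have h2 : 7 ∣ Nat.card ↥ρ.ker := by
      have hwk : (⟨w, hwC⟩ : ↥C0) ∈ ρ.ker := by
        rw [MonoidHom.mem_ker]
        have h3 : ρ ⟨w, hwC⟩ ∈ center A := by
          rw [mem_center_iff]
          intro a
          obtain ⟨d, rfl⟩ := hρ a
          rw [← map_mul, ← map_mul]
          congr 1
          exact Subtype.ext (hwc d)
        rcases (inferInstance : (center A).Normal).eq_bot_or_eq_top with h4 | h4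
        · rwa [h4, mem_bot] at h3
        · exfalso
          exact hA ⟨⟨fun a b => by
            have := mem_center_iff.1 (h4 ▸ mem_top b : b ∈ center A) a
            exact this⟩⟩
      have h3 : orderOf (⟨⟨w, hwC⟩, hwk⟩ : ↥ρ.ker) ∣ Nat.card ↥ρ.ker := orderOf_dvd_natCard _
      rwa [Subgroup.orderOf_mk, Subgroup.orderOf_mk, hw] at h3
    rw [← h1, pow_two]
    exact Nat.mul_dvd_mul h2 h7A
  have hD0 : Nat.card D ≠ 0 := Nat.card_pos.ne'
  have hN0 : Nat.card ↥N1 ≠ 0 := Nat.card_pos.ne'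
  have hC00 : Nat.card ↥C0 ≠ 0 := Nat.card_pos.ne'
  have hfN : (Nat.card ↥N1).factorization 7 = 5 := by
    have e1 : (Nat.card D).factorization 7 = 6 := by
      have a1 := (hp7.pow_dvd_iff_le_factorization hD0).1 h6
      have a2 : ¬ 7 ≤ (Nat.card D).factorization 7 := fun h => h7 ((hp7.pow_dvd_iff_le_factorization hD0).2 h)
      omega
    have e2 : (Nat.card ↥C0).factorization 7 = 2 := by
      have a1 := (hp7.pow_dvd_iff_le_factorization hC00).1 hC049
      have a2 : ¬ 3 ≤ (Nat.card ↥C0).factorization 7 := fun h => h3 ((hp7.pow_dvd_iff_le_factorization hC00).2 h)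
      omega
    have e3 : (Nat.card D * 7).factorization 7 = (Nat.card ↥N1 * Nat.card ↥C0).factorization 7 := by rw [hcard]
    rw [Nat.factorization_mul hD0 (by norm_num), Nat.factorization_mul hN0 hC00, Finsupp.add_apply, Finsupp.add_apply,
      e1, e2, hp7.factorization_self] at e3
    omega
  have hQcard : Nat.card ↥Q = 7 ^ 5 := by
    obtain ⟨m, hm⟩ := IsPGroup.iff_card.1 hQp
    have h1 : 7 ^ m ∣ Nat.card ↥N1 := hm ▸ card_dvd_of_le hQle
    have h2 : m ≤ 5 := by
      have := (hp7.pow_dvd_iff_le_factorization hN0).1 h1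
      omega
    obtain ⟨P⟩ : Nonempty (Sylow 7 ↥N1) := inferInstance
    have h3 : Nat.card ↥(P : Subgroup ↥N1) = 7 ^ 5 := by rw [P.card_eq_multiplicity, hfN]
    have h4 : (P : Subgroup ↥N1).map N1.subtype ≤ Q := by
      rintro _ ⟨n, hn, rfl⟩
      obtain ⟨k, hk⟩ := P.isPGroup' ⟨n, hn⟩
      refine hQ1 _ n.2 ⟨k, ?_⟩
      have h5 := congrArg (fun u : ↥(P : Subgroup ↥N1) => ((u : ↥N1) : D)) hk
      exact h5
    have h5 : 7 ^ 5 ∣ Nat.card ↥Q := by
      rw [← h3, ← card_map_of_injective (f := N1.subtype) N1.subtype_injective]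
      exact card_dvd_of_le h4
    rw [hm] at h5 ⊢
    have h6 : 5 ≤ m := (Nat.pow_dvd_pow_iff_le_right (by norm_num)).1 h5
    congr 1
    omega
  -- solvability of `N1`
  have hN1s : Group.IsSolvable ↥N1 := by
    have h1 : Group.IsSolvable ↥((zpowers w).subgroupOf N1) := Group.isSolvable_of_comm (by
      rintro ⟨⟨a, ha⟩, ha'⟩ ⟨⟨b, hb⟩, hb'⟩
      obtain ⟨i, hi⟩ := mem_zpowers_iff.1 (mem_subgroupOf.1 ha')
      apply Subtype.ext
      apply Subtype.ext
      change a * b = b * a
      have hi' : w ^ i = a := hi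
      rw [← hi']
      exact ((show Commute b w from hwc b).zpow_right i).eq.symm)
    have h2 : Group.IsSolvable ↥(N1.map π) := Group.isSolvable_of_comm (by
      rintro ⟨_, a, ha, rfl⟩ ⟨_, b, hb, rfl⟩
      exact Subtype.ext (hBc a ha b hb))
    refine Group.isSolvable_of_ker_le_range ((zpowers w).subgroupOf N1).subtype (π.subgroupMap N1) ?_
    intro n hn
    rw [MonoidHom.mem_ker] at hn
    have h3 : π (n : D) = 1 := congrArg Subtype.val hn
    rw [hπk] at h3
    exact ⟨⟨n, mem_subgroupOf.2 h3⟩, rfl⟩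
  have hN1R : N1 ≤ solvableRadical D := le_rad hN1n hN1s
  have hAs : ¬ Group.IsSolvable A := fun h => hA ⟨⟨IsSimpleGroup.comm_iff_isSolvable.2 h⟩⟩
  refine ⟨Q, hQn, hQp, hwQ, hQc, hQcard, ?_, ?_⟩
  · -- the radical
    rintro x hx ⟨k, hk⟩
    apply hQ1 x _ ⟨k, hk⟩
    obtain ⟨n, hn, c, hc, rfl⟩ := mem_sup_of_normal_left.1 (hsup1 ▸ mem_top x : x ∈ N1 ⊔ C0)
    have hcR : c ∈ solvableRadical D := by
      have := (solvableRadical D).mul_mem ((solvableRadical D).inv_mem (hN1R hn)) hx
      rwa [inv_mul_cancel_left] at this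
    have hMn : (((solvableRadical D).subgroupOf C0).map ρ).Normal := Normal.map inferInstance ρ hρ
    have hRs : Group.IsSolvable ↥(solvableRadical D) := rad_solvable D
    have hMs : Group.IsSolvable ↥(((solvableRadical D).subgroupOf C0).map ρ) := by
      have h1 : Group.IsSolvable ↥((solvableRadical D).subgroupOf C0) := by
        refine Group.isSolvable_of_isSolvable_injective
          (f := (C0.subtype.comp ((solvableRadical D).subgroupOf C0).subtype).codRestrict (solvableRadical D)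
            fun t => mem_subgroupOf.1 t.2) ?_
        intro a b hab
        exact Subtype.ext (Subtype.ext (congrArg (fun t : ↥(solvableRadical D) => (t : D)) hab))
      exact Group.isSolvable_of_surjective (ρ.subgroupMap_surjective ((solvableRadical D).subgroupOf C0))
    have h1 : ρ ⟨c, hc⟩ = 1 := by
      have h3 : ρ ⟨c, hc⟩ ∈ ((solvableRadical D).subgroupOf C0).map ρ := mem_map_of_mem _ (mem_subgroupOf.2 hcR)
      rcases hMn.eq_bot_or_eq_top with h2 | h2
      · rwa [h2, mem_bot] at h3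
      · exfalso
        apply hAs
        rw [h2] at hMs
        exact Group.isSolvable_of_surjective (f := (Subgroup.topEquiv (G := A)).toMonoidHom)
          (Subgroup.topEquiv (G := A)).surjective
    obtain ⟨i, j, hij⟩ := hk' _ h1
    have hij' : c = w ^ i * z ^ j := hij
    rcases Int.even_or_odd' j with ⟨m, hm | hm⟩
    · have h3 : z ^ j = 1 := by
        rw [hm, zpow_mul]
        have : z ^ (2 : ℤ) = 1 := by rw [show (2 : ℤ) = ((2 : ℕ) : ℤ) by rfl, zpow_natCast, pow_two, hzz]
        rw [this, one_zpow]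
      rw [hij', h3, mul_one]
      exact N1.mul_mem hn (N1.zpow_mem hwN i)
    · exfalso
      have h3 : z ^ j = z := by
        rw [hm, zpow_add, zpow_mul, zpow_one]
        have : z ^ (2 : ℤ) = 1 := by rw [show (2 : ℤ) = ((2 : ℕ) : ℤ) by rfl, zpow_natCast, pow_two, hzz]
        rw [this, one_zpow, one_mul]
      apply hzN
      rw [← QuotientGroup.eq_one_iff]
      have h4 : ((n * c : D) : D ⧸ N1) = (z : D ⧸ N1) := by
        rw [hij', h3, ← mul_assoc, QuotientGroup.mk_mul,
          (QuotientGroup.eq_one_iff (n * w ^ i)).2 (N1.mul_mem hn (N1.zpow_mem hwN i)), one_mul]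
      have h5 : (z : D ⧸ N1) ^ 7 ^ k = 1 := by
        rw [← h4, ← QuotientGroup.mk_pow, hk, QuotientGroup.mk_one]
      have h6 : z ^ 7 ^ k = z := by
        have ho : Odd (7 ^ k) := Odd.pow (by decide)
        obtain ⟨m, hm⟩ := ho
        rw [hm, pow_succ, pow_mul, pow_two, hzz, one_pow, one_mul]
      rwa [← QuotientGroup.mk_pow, h6] at h5
  · -- irreducibility
    have hcm : ∀ U : Subgroup D, w ∈ U → Nat.card ↥U = Nat.card ↥(U.map π) * 7 := by
      intro U hU
      have e1 : (U.map π).index = U.index := index_map_eq U hπ (by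
        rw [QuotientGroup.ker_mk', zpowers_le]
        exact hU)
      have e2 := card_eq_card_quotient_mul_card_subgroup (zpowers w)
      rw [Nat.card_zpowers, hw] at e2
      have e3 := U.card_mul_index
      have e4 := (U.map π).card_mul_index
      have e5 : U.index ≠ 0 := index_ne_zero_of_finite
      have e6 : Nat.card ↥U * U.index = (Nat.card ↥(U.map π) * 7) * U.index := by
        rw [e3, e2, ← e4, e1]
        ring
      exact Nat.eq_of_mul_eq_mul_right (Nat.pos_of_ne_zero e5) e6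
    have hQb : Nat.card ↥(Q.map π) = 7 ^ 4 := by
      have := hcm Q hwQ
      rw [hQcard] at this
      omega
    have hQbn : (Q.map π).Normal := hQn.map π hπ
    -- an element of order five
    have h5F : Fact (Nat.Prime 5) := ⟨by norm_num⟩
    obtain ⟨f, hf⟩ := exists_prime_orderOf_dvd_card' 5 (h5A.trans (card_dvd_of_surjective ρ hρ))
    have hf5 : f ^ 5 = 1 := by rw [← hf, pow_orderOf_eq_one]
    have hρf : ρ f ≠ 1 := by
      intro h
      obtain ⟨i, j, hij⟩ := hk' _ h
      have h1 : f ^ 14 = 1 := by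
        apply Subtype.ext
        change (f : D) ^ 14 = 1
        have e3 : Commute (w ^ i) (z ^ j) := ((show Commute z w from hwc z).zpow_zpow j i).symm
        have e4 : (w ^ i) ^ 14 = 1 := by
          rw [← zpow_natCast, ← zpow_mul, mul_comm, zpow_mul, zpow_natCast, show 14 = 7 * 2 by norm_num, pow_mul, hw7,
            one_pow, one_zpow]
        have e5 : (z ^ j) ^ 14 = 1 := by
          rw [← zpow_natCast, ← zpow_mul, mul_comm, zpow_mul, zpow_natCast, show 14 = 2 * 7 by norm_num, pow_mul, pow_two,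
            hzz, one_pow, one_zpow]
        rw [hij, e3.mul_pow, e4, e5, one_mul]
      have h2 := orderOf_dvd_of_pow_eq_one h1
      rw [hf] at h2
      norm_num at h2
    have hfb : (π (f : D)) ^ 5 = 1 := by
      rw [← map_pow]
      have : (f : D) ^ 5 = 1 := congrArg Subtype.val hf5
      rw [this, map_one]
    rcases fix_cases hfb (Q.map π) hQb le_rfl with hcase | ⟨-, hcase⟩
    · -- the kernel of the action
      exfalso
      let N0 : Subgroup ↥C0 := (centralizer ((Q.map π : Subgroup (D ⧸ zpowers w)) : Set (D ⧸ zpowers w))).comap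
        (π.comp C0.subtype)
      have hN0n : N0.Normal := inferInstance
      have hfN : f ∈ N0 := by
        change π (f : D) ∈ centralizer _
        rw [mem_centralizer_iff]
        exact fun b hb => hcase b hb
      have hM : (N0.map ρ).Normal := hN0n.map ρ hρ
      have h1 : N0.map ρ = ⊤ := by
        rcases hM.eq_bot_or_eq_top with h2 | h2
        · exfalso
          have h3 : ρ f ∈ N0.map ρ := mem_map_of_mem _ hfN
          rw [h2, mem_bot] at h3
          exact hρf h3
        · exact h2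
      have h2 : 2 ∣ Nat.card ↥N0 := by
        refine h2A.trans ?_
        have := card_map_dvd N0 ρ
        rwa [h1, card_top] at this
      obtain ⟨u, hu2⟩ := exists_prime_orderOf_dvd_card' 2 h2
      have huu : ((u : ↥C0) : D) * ((u : ↥C0) : D) = 1 := by
        have h3 : u * u = 1 := by rw [← pow_two, ← hu2, pow_orderOf_eq_one]
        exact congrArg (fun t : ↥N0 => ((t : ↥C0) : D)) h3
      have hzN0 : ∀ b ∈ Q, π b * π z = π z * π b := by
        rcases hu _ huu ((hmC _).1 (u : ↥C0).2) with h3 | h3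
        · exfalso
          have h4 : u = 1 := Subtype.ext (Subtype.ext h3)
          rw [h4, orderOf_one] at hu2
          norm_num at hu2
        · intro b hb
          have h4 := mem_centralizer_iff.1 u.2 (π b) (mem_map_of_mem _ hb)
          have h5 : (π.comp C0.subtype) (u : ↥C0) = π z := congrArg π h3
          rwa [h5] at h4
      have h3 : ∀ b ∈ Q, π b = 1 := by
        intro b hb
        have h4 := hBinv b (hQle hb)
        rw [map_mul, map_mul, map_inv, ← hzN0 b hb, mul_inv_cancel_right] at h4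
        have h5 : (π b) ^ 2 = 1 := by
          rw [pow_two]
          nth_rewrite 1 [h4]
          exact inv_mul_cancel _
        obtain ⟨-, k, hk⟩ := hb
        have ho : Odd (7 ^ k) := Odd.pow (by decide)
        obtain ⟨m, hm⟩ := ho
        rwa [hm, pow_succ, pow_mul, h5, one_pow, one_mul] at hk
      have h4 : Q.map π = ⊥ := by
        rw [eq_bot_iff]
        rintro _ ⟨b, hb, rfl⟩
        exact mem_bot.2 (h3 b hb)
      rw [h4, card_bot] at hQb
      norm_num at hQb
    · intro U hUn hwU hUQ hUne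
      have hUbn : (U.map π).Normal := hUn.map π hπ
      have hle : U.map π ≤ Q.map π := map_mono hUQ
      obtain ⟨a, ha4, ha⟩ := (Nat.dvd_prime_pow hp7).1 (hQb ▸ card_dvd_of_le hle)
      have hUcard := hcm U hwU
      rcases fix_cases hfb (U.map π) ha ha4 with h1 | ⟨h1, -⟩
      · exfalso
        apply hUne
        have h2 : U.map π = ⊥ := by
          rw [eq_bot_iff]
          intro b hb
          exact mem_bot.2 (hcase b (hle hb) (h1 b hb))
        rw [h2, card_bot, one_mul] at hUcard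
        symm
        apply eq_of_le_of_card_ge (zpowers_le.2 hwU)
        rw [Nat.card_zpowers, hw, hUcard]
      · apply eq_of_le_of_card_ge hUQ
        rw [hUcard, ha, h1, hQcard]
        norm_num

end Main

end Cfsg.Agent.H961.SevD
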