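import Cfsg.Agent.H961.SevLoc
import Cfsg.Agent.H839.Rad.Transv

/-!
# The end of the argument (helper961)

`QQ w Q` : the properties of `Q = O_7(C(w))`.  `Loc.final` : no element of order 7 of `Q` outside of `⟨w⟩` has the pair
property.
-/

set_option autoImplicit false

namespace Cfsg.Agent.H961.SevLift

open Subgroup Cfsg Cfsg.Agent.H459.Rad

/-- the properties of `O_7(C(w))` -/
structure QQ {K : Type*} [Group K] (w : K) (Q : Subgroup K) : Prop where
  le : Q ≤ centralizer ({w} : Set K)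
  norm : ∀ d : K, d * w = w * d → ∀ q ∈ Q, d * q * d⁻¹ ∈ Q
  pgroup : IsPGroup 7 ↥Q
  mem : w ∈ Q
  comm : ∀ a ∈ Q, ∀ b ∈ Q, a * b * a⁻¹ * b⁻¹ ∈ zpowers w
  card : Nat.card ↥Q = 7 ^ 5
  max : ∀ B : Subgroup K, B ≤ centralizer ({w} : Set K) → (∀ d : K, d * w = w * d → ∀ q ∈ B, d * q * d⁻¹ ∈ B) →
    IsPGroup 7 ↥B → B ≤ Q
  irr : ∀ U : Subgroup K, (∀ d : K, d * w = w * d → ∀ q ∈ U, d * q * d⁻¹ ∈ U) → w ∈ U → U ≤ Q → U ≠ zpowers w → U = Q

variable {K : Type*} [Group K] {y w v s a c : K} {Q : Subgroup K}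

/-- the automorphisms of `⟨w⟩` normalise `Q` -/
theorem QQ.inv_mem (hQ : QQ w Q) {b : K} (hb : b * w * b⁻¹ = w⁻¹) {q : K} (hq : q ∈ Q) : b * q * b⁻¹ ∈ Q := by
  have hb' : b⁻¹ * w * b = w⁻¹ := by
    have e1 : b⁻¹ * w⁻¹ * b = w := by rw [← hb]; group
    have e2 : b⁻¹ * w * b = (b⁻¹ * w⁻¹ * b)⁻¹ := by group
    rw [e2, e1]
  have key : Q.map (MulAut.conj b).toMonoidHom ≤ Q := by
    apply hQ.max
    · rintro _ ⟨q, hq, rfl⟩
      have h1 : q * w = w * q := mem_centralizer_singleton_iff.1 (hQ.le hq)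
      have h2 : q * w⁻¹ = w⁻¹ * q := ((show Commute q w from h1).inv_right).eq
      rw [mem_centralizer_singleton_iff]
      change b * q * b⁻¹ * w = w * (b * q * b⁻¹)
      calc b * q * b⁻¹ * w = b * q * (b⁻¹ * w * b) * b⁻¹ := by group
        _ = b * (q * w⁻¹) * b⁻¹ := by rw [hb']; group
        _ = b * (w⁻¹ * q) * b⁻¹ := by rw [h2]
        _ = b * (b⁻¹ * w * b * q) * b⁻¹ := by rw [hb']
        _ = w * (b * q * b⁻¹) := by group
    · rintro d hd _ ⟨q, hq, rfl⟩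
      have h2 : d * w⁻¹ = w⁻¹ * d := ((show Commute d w from hd).inv_right).eq
      refine ⟨(b⁻¹ * d * b) * q * (b⁻¹ * d * b)⁻¹, hQ.norm _ ?_ q hq, ?_⟩
      · calc b⁻¹ * d * b * w = b⁻¹ * d * (b * w * b⁻¹) * b := by group
          _ = b⁻¹ * (d * w⁻¹) * b := by rw [hb]; group
          _ = b⁻¹ * (w⁻¹ * d) * b := by rw [h2]
          _ = b⁻¹ * (b * w * b⁻¹ * d) * b := by rw [hb]
          _ = w * (b⁻¹ * d * b) := by group
      · change b * (b⁻¹ * d * b * q * (b⁻¹ * d * b)⁻¹) * b⁻¹ = d * (b * q * b⁻¹) * d⁻¹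
        group
    · exact hQ.pgroup.map _
  exact key ⟨q, hq, rfl⟩

theorem Loc.a_w1 (h : Loc y w v s a c) : a * (a * w * a⁻¹) * a⁻¹ = w⁻¹ := by
  have := h.aaw
  rw [mul_inv_rev] at this
  rw [← this]
  group

/-- `s` does not commute with `a w a⁻¹` modulo `⟨y⟩` -/
theorem Loc.not_comm (h : Loc y w v s a c) {i : ℤ} : s * y ^ i * (a * w * a⁻¹) ≠ a * w * a⁻¹ * (s * y ^ i) := by
  obtain ⟨j, hj⟩ := h.aw
  rw [hj]
  intro h1
  apply h.w1
  have e1 : ∀ k : ℤ, s * y ^ k = y ^ k * s := fun k => ((show Commute s y from h.ys).zpow_right k).eq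
  have e2 : ∀ k : ℤ, v * y ^ k = y ^ k * v := fun k => ((show Commute v y from h.yv).zpow_right k).eq
  have h2 : s * v = v * s := by
    have h3 : s * v * (y ^ i * y ^ j) = v * s * (y ^ i * y ^ j) := by
      calc s * v * (y ^ i * y ^ j) = s * (v * y ^ i) * y ^ j := by group
        _ = s * y ^ i * (v * y ^ j) := by rw [e2]; group
        _ = v * y ^ j * (s * y ^ i) := h1
        _ = v * (y ^ j * s) * y ^ i := by group
        _ = v * s * (y ^ i * y ^ j) := by rw [← e1]; group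
    exact mul_right_cancel h3
  rw [← h.sv, h2]
  group

variable [Finite K]

theorem zpow_norm {y : K} (hy : ∀ q ∈ Q, y * q * y⁻¹ ∈ Q) (i : ℤ) {q : K} (hq : q ∈ Q) : y ^ i * q * (y ^ i)⁻¹ ∈ Q := by
  have h1 : y ^ i ∈ normalizer (Q : Set K) := zpow_mem (zpowers_le_normalizer hy (mem_zpowers y)) i
  exact (mem_normalizer_iff.1 h1 q).1 hq

/-- the elements of `Q ⟨y⟩` -/
def YQ {y : K} (hy : ∀ q ∈ Q, y * q * y⁻¹ ∈ Q) : Subgroup K where
  carrier := {t | ∃ i : ℤ, t * y ^ i ∈ Q}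
  one_mem' := ⟨0, by rw [zpow_zero, mul_one]; exact one_mem _⟩
  mul_mem' := by
    rintro g h ⟨i, hi⟩ ⟨j, hj⟩
    refine ⟨j + i, ?_⟩
    have h1 := mul_mem hi (zpow_norm hy (-i) hj)
    have h2 : g * y ^ i * (y ^ (-i) * (h * y ^ j) * (y ^ (-i))⁻¹) = g * h * y ^ (j + i) := by
      rw [zpow_add, zpow_neg]; group
    rwa [h2] at h1
  inv_mem' := by
    rintro g ⟨i, hi⟩
    refine ⟨-i, ?_⟩
    have h1 := zpow_norm hy i (Q.inv_mem hi)
    have h2 : y ^ i * (g * y ^ i)⁻¹ * (y ^ i)⁻¹ = g⁻¹ * y ^ (-i) := by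
      rw [zpow_neg]; group
    rwa [h2] at h1

/-- the element `a w a⁻¹` lies in `Q` -/
theorem Loc.mem_Q (h : Loc y w v s a c) (hQ : QQ w Q) (h5 : ¬ 7 ^ 5 ∣ Nat.card ↥(centralizer ({y} : Set K)))
    (h7 : ¬ 7 ^ 7 ∣ Nat.card K) :
    a * w * a⁻¹ ∈ Q ∧ ∃ s1 ∈ Q, s1 * (a * w * a⁻¹) ≠ a * w * a⁻¹ * s1 := by
  have hp7 : Nat.Prime 7 := by norm_num
  have : Fact (Nat.Prime 7) := ⟨hp7⟩
  have hTnorm : ∀ t ∈ TT y w v s, ∀ q ∈ Q, t * q * t⁻¹ ∈ Q := fun t ht q hq =>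
    hQ.norm t (mem_centralizer_singleton_iff.1 (h.TT_le_cw ht)) q hq
  by_cases hy : y ∈ Q
  · -- `T = C_Q(y)`
    have hcent : 7 ^ 4 ∣ Nat.card ↥(Q ⊓ centralizer ({y} : Set K)) := by
      let φ : ↥Q →* K :=
        { toFun := fun q => y * q * y⁻¹ * (q : K)⁻¹
          map_one' := by simp
          map_mul' := by
            rintro ⟨p, hp⟩ ⟨q, hq⟩
            change y * (p * q) * y⁻¹ * (p * q)⁻¹ = y * p * y⁻¹ * p⁻¹ * (y * q * y⁻¹ * q⁻¹)
            obtain ⟨i, hi⟩ := mem_zpowers_iff.1 (hQ.comm y hy q hq)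
            have h1 : p * w ^ i = w ^ i * p :=
              ((show Commute p w from mem_centralizer_singleton_iff.1 (hQ.le hp)).zpow_right i).eq
            calc y * (p * q) * y⁻¹ * (p * q)⁻¹ = y * p * y⁻¹ * (y * q * y⁻¹ * q⁻¹) * p⁻¹ := by group
              _ = y * p * y⁻¹ * (w ^ i * p⁻¹) := by rw [← hi]; group
              _ = y * p * y⁻¹ * (p⁻¹ * w ^ i) := by
                have h2 : w ^ i * p⁻¹ = p⁻¹ * w ^ i := by
                  rw [eq_inv_mul_iff_mul_eq, ← mul_assoc, h1, mul_inv_cancel_right]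
                rw [h2]
              _ = y * p * y⁻¹ * p⁻¹ * (y * q * y⁻¹ * q⁻¹) := by rw [← hi]; group }
      have hr : Nat.card ↥φ.range ∣ 7 := by
        rw [← orderOf_eq_prime h.w7 h.w1, ← Nat.card_zpowers]
        apply card_dvd_of_le
        rintro _ ⟨q, rfl⟩
        exact hQ.comm y hy q q.2
      have hk : Nat.card ↥φ.ker * Nat.card ↥φ.range = 7 ^ 5 := by
        rw [← hQ.card, ← φ.ker.card_mul_index, index_ker]
      have hkc : Nat.card ↥φ.ker = Nat.card ↥(Q ⊓ centralizer ({y} : Set K)) := by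
        rw [← card_map_of_injective (f := Q.subtype) Q.subtype_injective]
        congr 2
        ext g
        constructor
        · rintro ⟨q, hq, rfl⟩
          refine ⟨q.2, mem_centralizer_singleton_iff.2 ?_⟩
          have h1 : y * (q : K) * y⁻¹ * (q : K)⁻¹ = 1 := hq
          rw [mul_inv_eq_one, mul_inv_eq_iff_eq_mul] at h1
          exact h1.symm
        · rintro ⟨hg, hgy⟩
          refine ⟨⟨g, hg⟩, ?_, rfl⟩
          rw [SetLike.mem_coe, MonoidHom.mem_ker]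
          change y * g * y⁻¹ * g⁻¹ = 1
          rw [← mem_centralizer_singleton_iff.1 hgy]
          group
      rw [← hkc]
      rcases (Nat.dvd_prime hp7).1 hr with h1 | h1
      · rw [h1, mul_one] at hk
        rw [hk]
        norm_num
      · rw [h1] at hk
        refine ⟨1, ?_⟩
        have : Nat.card ↥φ.ker * 7 = 7 ^ 4 * 7 := by rw [hk]; norm_num
        omega
    have hle : Q ⊓ centralizer ({y} : Set K) ≤ TT y w v s := by
      have h1 : TT y w v s ⊔ (Q ⊓ centralizer ({y} : Set K)) = TT y w v s := by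
        apply h.eq_of_le h5
        · refine IsPGroup.to_sup_of_normal_right' h.pgroup (hQ.pgroup.to_le inf_le_left) ?_
          intro t ht
          refine zpowers_le_normalizer (g := t) ?_ (mem_zpowers t)
          rintro b ⟨hb, hby⟩
          exact ⟨hTnorm t ht b hb, (centralizer ({y} : Set K)).mul_mem ((centralizer ({y} : Set K)).mul_mem (h.TT_le_cy ht) hby)
            ((centralizer ({y} : Set K)).inv_mem (h.TT_le_cy ht))⟩
        · exact sup_le h.TT_le_cy inf_le_right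
        · exact le_sup_left
      rw [← h1]
      exact le_sup_right
    have heq : Q ⊓ centralizer ({y} : Set K) = TT y w v s := by
      apply eq_of_le_of_card_ge hle
      rw [h.card_eq h5]
      exact Nat.le_of_dvd Nat.card_pos hcent
    have hTQ : TT y w v s ≤ Q := by rw [← heq]; exact inf_le_left
    obtain ⟨i, hi⟩ := h.aw
    refine ⟨?_, s * y ^ (0 : ℤ), ?_, h.not_comm⟩
    · rw [hi]
      exact hTQ (mul_mem v_mem_TT (zpow_mem y_mem_TT i))
    · exact hTQ (mul_mem s_mem_TT (zpow_mem y_mem_TT 0))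
  · -- `T ≤ ⟨y⟩ Q`
    have hyQ : ∀ q ∈ Q, y * q * y⁻¹ ∈ Q := hTnorm y y_mem_TT
    have hyn : zpowers y ≤ normalizer (Q : Set K) := zpowers_le_normalizer hyQ
    have hP1 : IsPGroup 7 ↥(TT y w v s ⊔ Q) := by
      refine IsPGroup.to_sup_of_normal_right' h.pgroup hQ.pgroup ?_
      intro t ht
      exact zpowers_le_normalizer (hTnorm t ht) (mem_zpowers t)
    have hle : zpowers y ⊔ Q ≤ TT y w v s ⊔ Q := sup_le_sup_right (zpowers_le.2 y_mem_TT) Q
    have h6 : 7 ^ 6 ∣ Nat.card ↥(zpowers y ⊔ Q) := by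
      refine card_step hp7 (hP1.to_le hle) (A := Q) ?_ (k := 5) (by rw [hQ.card])
      refine lt_of_le_of_ne le_sup_right fun h1 => hy ?_
      rw [h1]
      exact mem_sup_left (mem_zpowers y)
    have heq : zpowers y ⊔ Q = TT y w v s ⊔ Q := by
      by_contra hne
      exact h7 ((card_step hp7 hP1 (lt_of_le_of_ne hle hne) h6).trans (card_subgroup_dvd_card _))
    have hT : ∀ t ∈ TT y w v s, ∃ i : ℤ, t * y ^ i ∈ Q := by
      intro t ht
      have h1 : t ∈ Q ⊔ zpowers y := by rw [sup_comm, heq]; exact mem_sup_left ht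
      exact (sup_le (fun q hq => ⟨0, by rw [zpow_zero, mul_one]; exact hq⟩)
        (zpowers_le.2 ⟨-1, by rw [zpow_neg_one, mul_inv_cancel]; exact one_mem _⟩) : Q ⊔ zpowers y ≤ YQ hyQ) h1
    obtain ⟨k, hk⟩ := h.aw
    obtain ⟨i, hi⟩ := hT (a * w * a⁻¹) (by rw [hk]; exact mul_mem v_mem_TT (zpow_mem y_mem_TT k))
    obtain ⟨j, hj⟩ := hT s s_mem_TT
    refine ⟨?_, s * y ^ j, hj, h.not_comm⟩
    have h1 := hQ.inv_mem h.aaw hi
    have e1 : (a * a) * y ^ i = y ^ i * (a * a) :=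
      (((show Commute a y from h.ya).mul_left (show Commute a y from h.ya)).zpow_right i).eq
    have e2 : a * a * (a * w * a⁻¹ * y ^ i) * (a * a)⁻¹ = (a * w * a⁻¹)⁻¹ * y ^ i := by
      calc a * a * (a * w * a⁻¹ * y ^ i) * (a * a)⁻¹
          = a * (a * a * w * (a * a)⁻¹) * a⁻¹ * ((a * a) * y ^ i * (a * a)⁻¹) := by group
        _ = a * w⁻¹ * a⁻¹ * y ^ i := by rw [h.aaw, e1, mul_inv_cancel_right]
        _ = (a * w * a⁻¹)⁻¹ * y ^ i := by rw [conj_inv]
    rw [e2] at h1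
    have h2 : (a * w * a⁻¹) ^ 2 ∈ Q := by
      have e3 : (a * w * a⁻¹) ^ 2 = (a * w * a⁻¹ * y ^ i) * ((a * w * a⁻¹)⁻¹ * y ^ i)⁻¹ := by
        rw [pow_two, mul_inv_rev, inv_inv]
        group
      rw [e3]
      exact mul_mem hi (Q.inv_mem h1)
    have h3 : (a * w * a⁻¹) ^ 7 ∈ Q := by
      rw [conj_pow, h.w7, mul_one, mul_inv_cancel]
      exact one_mem _
    exact mem_of_coprime_pow (by norm_num) h2 h3

/-- **No radical element of order 7 in `Q`.** -/
theorem Loc.final (h : Loc y w v s a c) (hQ : QQ w Q) (h5 : ¬ 7 ^ 5 ∣ Nat.card ↥(centralizer ({y} : Set K)))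
    (h7 : ¬ 7 ^ 7 ∣ Nat.card K) (hc : center K = ⊥) {x : K} (hx : x ∈ Q) (hxw : x ∉ zpowers w)
    (hps : PS 2 (MulAut.conj x)) : False := by
  obtain ⟨hw1, s1, hs1, hs1w⟩ := h.mem_Q hQ h5 h7
  obtain ⟨w1, hw1e⟩ : ∃ w1, w1 = a * w * a⁻¹ := ⟨_, rfl⟩
  rw [← hw1e] at hw1 hs1w
  have hwo : orderOf w = 7 := by
    have : Fact (Nat.Prime 7) := ⟨by norm_num⟩
    exact orderOf_eq_prime h.w7 h.w1
  have hw1o : orderOf w1 = 7 := by rw [hw1e, ← MulAut.conj_apply, MulEquiv.orderOf_eq, hwo]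
  have hww1 : w * w1 = w1 * w := (mem_centralizer_singleton_iff.1 (hQ.le hw1)).symm
  have hw1n : w1 ∉ zpowers w := by
    intro h1
    obtain ⟨i, hi⟩ := mem_zpowers_iff.1 h1
    apply hs1w
    rw [← hi]
    exact ((show Commute s1 w from mem_centralizer_singleton_iff.1 (hQ.le hs1)).zpow_right i).eq
  -- a conjugate of `x` which does not commute with `w1`
  obtain ⟨d, hd, hdx⟩ : ∃ d : K, d * w = w * d ∧ (d * x * d⁻¹) * w1 ≠ w1 * (d * x * d⁻¹) := by
    by_contra hcon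
    push Not at hcon
    let U : Subgroup K := closure ({g | ∃ d : K, d * w = w * d ∧ g = d * x * d⁻¹} ∪ {w})
    have hU1 : ∀ d : K, d * w = w * d → ∀ q ∈ U, d * q * d⁻¹ ∈ U := by
      intro d hd q hq
      have h1 : U.map (MulAut.conj d).toMonoidHom ≤ U := by
        rw [MonoidHom.map_closure, closure_le]
        rintro _ ⟨g, hg, rfl⟩
        apply Subgroup.subset_closure
        rcases hg with ⟨e, he, rfl⟩ | hg
        · left
          refine ⟨d * e, by rw [mul_assoc, he, ← mul_assoc, hd, mul_assoc], ?_⟩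
          change d * (e * x * e⁻¹) * d⁻¹ = _
          group
        · right
          rw [Set.mem_singleton_iff] at hg
          subst hg
          change d * g * d⁻¹ = g
          rw [hd, mul_inv_cancel_right]
      exact h1 ⟨q, hq, rfl⟩
    have hUw : w ∈ U := Subgroup.subset_closure (Or.inr rfl)
    have hUx : x ∈ U := Subgroup.subset_closure (Or.inl ⟨1, by rw [one_mul, mul_one], by group⟩)
    have hUQ : U ≤ Q := by
      rw [closure_le]
      rintro _ (⟨e, he, rfl⟩ | hg)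
      · exact hQ.norm e he x hx
      · rw [Set.mem_singleton_iff] at hg
        rw [hg]
        exact hQ.mem
    have hU := hQ.irr U hU1 hUw hUQ (fun h1 => hxw (h1 ▸ hUx))
    have hUc : U ≤ centralizer ({w1} : Set K) := by
      rw [closure_le]
      rintro _ (⟨e, he, rfl⟩ | hg)
      · exact mem_centralizer_singleton_iff.2 (hcon e he)
      · rw [Set.mem_singleton_iff] at hg
        rw [hg]
        exact mem_centralizer_singleton_iff.2 hww1
    rw [hU] at hUc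
    exact hs1w (mem_centralizer_singleton_iff.1 (hUc hs1))
  obtain ⟨x1, hx1⟩ : ∃ x1, x1 = d * x * d⁻¹ := ⟨_, rfl⟩
  rw [← hx1] at hdx
  have hx1Q : x1 ∈ Q := hx1 ▸ hQ.norm d hd x hx
  have hps1 : PS 2 (MulAut.conj x1) := hx1 ▸ H839.Rad.ps_conj hps d
  have hx1w : x1 * w = w * x1 := mem_centralizer_singleton_iff.1 (hQ.le hx1Q)
  obtain ⟨m, hm⟩ := mem_zpowers_iff.1 (hQ.comm x1 hx1Q w1 hw1)
  have hm7 : ¬ (7 : ℤ) ∣ m := by
    intro h1
    apply hdx
    have h2 : w ^ m = 1 := by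
      rw [← orderOf_dvd_iff_zpow_eq_one, hwo]
      exact h1
    rw [h2] at hm
    have h3 := hm.symm
    rw [mul_inv_eq_one, mul_inv_eq_iff_eq_mul] at h3
    exact h3
  have cww1 : ∀ i : ℤ, w ^ i * w1 = w1 * w ^ i := fun i => ((show Commute w w1 from hww1).zpow_left i).eq
  have hub : x1 * w1 * x1⁻¹ = w1 * w ^ m := by
    rw [← cww1, hm]
    group
  have haw1 : a * w1 * a⁻¹ = w⁻¹ := by rw [hw1e]; exact h.a_w1
  have : Fact (Nat.Prime 7) := ⟨by norm_num⟩
  refine H839.Rad.not_solvable_closure (p := 7) (by norm_num) hwo hw1o hww1 hw1n (u := x1) (v := a * x1 * a⁻¹) (m := m)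
    (n := -m) hm7 (by rwa [dvd_neg]) hx1w hub ?_ ?_ (H839.Rad.solvable_pair hc hps1 a)
  · rw [hw1e]
    calc a * x1 * a⁻¹ * (a * w * a⁻¹) = a * (x1 * w) * a⁻¹ := by group
      _ = a * w * a⁻¹ * (a * x1 * a⁻¹) := by rw [hx1w]; group
  · have e1 : w = a * w1⁻¹ * a⁻¹ := by
      have : a * w1⁻¹ * a⁻¹ = (a * w1 * a⁻¹)⁻¹ := by rw [conj_inv]
      rw [this, haw1, inv_inv]
    have e2 : a * w ^ (-m) * a⁻¹ = w1 ^ (-m) := by rw [hw1e, conj_zpow]
    have e3 : x1 * w1⁻¹ * x1⁻¹ = w1⁻¹ * w ^ (-m) := by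
      have : x1 * w1⁻¹ * x1⁻¹ = (x1 * w1 * x1⁻¹)⁻¹ := by rw [conj_inv]
      rw [this, hub, mul_inv_rev, ← zpow_neg]
      exact (((show Commute w w1 from hww1).zpow_left (-m)).inv_right).eq
    calc a * x1 * a⁻¹ * w * (a * x1 * a⁻¹)⁻¹ = a * x1 * a⁻¹ * (a * w1⁻¹ * a⁻¹) * (a * x1 * a⁻¹)⁻¹ := by rw [← e1]
      _ = a * (x1 * w1⁻¹ * x1⁻¹) * a⁻¹ := by group
      _ = (a * w1⁻¹ * a⁻¹) * (a * w ^ (-m) * a⁻¹) := by rw [e3]; group
      _ = w * w1 ^ (-m) := by rw [← e1, e2]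

end Cfsg.Agent.H961.SevLift
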