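import Cfsg.Agent.H961.HeLocal
import Cfsg.Agent.LThreeMB.Quo

/-!
# Lifting the Sylow 7-subgroup of the Held group to a centralizer (helper961)

`Loc y w v s a c` : the relations in a group `K` with `C(y) / ⟨y⟩ ≅ He`; `exists_loc`.
-/

set_option autoImplicit false

namespace Cfsg.Agent.H961.SevLift

open Subgroup Cfsg Cfsg.Agent.H961.HeLocal

/-! ### Commutators modulo a central subgroup -/

section Comm

variable {C H : Type*} [Group C] [Group H] {π : C →* H} {y : C}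

theorem central_of_ker (hk : ∀ g, π g = 1 → g ∈ zpowers y) (hyc : ∀ g, g * y = y * g) {k : C} (h : π k = 1) (g : C) :
    g * k = k * g := by
  obtain ⟨i, rfl⟩ := mem_zpowers_iff.1 (hk k h)
  exact ((show Commute g y from hyc g).zpow_right i).eq

/-- commutators are well defined modulo the centre -/
theorem comm_eq (hk : ∀ g, π g = 1 → g ∈ zpowers y) (hyc : ∀ g, g * y = y * g) {g g' h h' : C} (hg : π g = π g')
    (hh : π h = π h') : g * h * g⁻¹ * h⁻¹ = g' * h' * g'⁻¹ * h'⁻¹ := by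
  have c1 := central_of_ker hk hyc (k := g'⁻¹ * g) (by rw [map_mul, map_inv, hg, inv_mul_cancel])
  have c2 := central_of_ker hk hyc (k := h'⁻¹ * h) (by rw [map_mul, map_inv, hh, inv_mul_cancel])
  obtain ⟨k, hk1⟩ : ∃ k, k = g'⁻¹ * g := ⟨_, rfl⟩
  obtain ⟨l, hl1⟩ : ∃ l, l = h'⁻¹ * h := ⟨_, rfl⟩
  have e1 : g = g' * k := by rw [hk1]; group
  have e2 : h = h' * l := by rw [hl1]; group
  rw [← hk1] at c1
  rw [← hl1] at c2
  subst e1
  subst e2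
  calc g' * k * (h' * l) * (g' * k)⁻¹ * (h' * l)⁻¹
      = g' * (k * h') * l * (k⁻¹ * g'⁻¹) * l⁻¹ * h'⁻¹ := by group
    _ = g' * (h' * k) * l * (k⁻¹ * g'⁻¹) * l⁻¹ * h'⁻¹ := by rw [c1 h']
    _ = g' * h' * (k * l) * (k⁻¹ * g'⁻¹) * l⁻¹ * h'⁻¹ := by group
    _ = g' * h' * (l * k) * (k⁻¹ * g'⁻¹) * l⁻¹ * h'⁻¹ := by rw [c2 k]
    _ = g' * h' * (l * g'⁻¹) * l⁻¹ * h'⁻¹ := by group
    _ = g' * h' * (g'⁻¹ * l) * l⁻¹ * h'⁻¹ := by rw [c2 g'⁻¹]
    _ = g' * h' * g'⁻¹ * h'⁻¹ := by group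

/-- the commutators with `w` of elements centralising `w` modulo the centre -/
theorem comm_mul {w g h : C} (hc : ∀ x : C, x * (w * h * w⁻¹ * h⁻¹) = (w * h * w⁻¹ * h⁻¹) * x) :
    w * (g * h) * w⁻¹ * (g * h)⁻¹ = (w * g * w⁻¹ * g⁻¹) * (w * h * w⁻¹ * h⁻¹) := by
  calc w * (g * h) * w⁻¹ * (g * h)⁻¹ = w * g * w⁻¹ * (w * h * w⁻¹ * h⁻¹) * g⁻¹ := by group
    _ = w * g * w⁻¹ * (g⁻¹ * (w * h * w⁻¹ * h⁻¹)) := by rw [mul_assoc, ← hc g⁻¹]
    _ = (w * g * w⁻¹ * g⁻¹) * (w * h * w⁻¹ * h⁻¹) := by group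

end Comm

/-- the relations in `K` -/
structure Loc {K : Type*} [Group K] (y w v s a c : K) : Prop where
  y7 : orderOf y = 7
  yw : w * y = y * w
  yv : v * y = y * v
  ys : s * y = y * s
  ya : a * y = y * a
  yc : c * y = y * c
  w7 : w ^ 7 = 1
  w1 : w ≠ 1
  wy : w ∉ zpowers y
  ws : w * s = s * w
  wv : w * v = v * w
  wc : w * c = c * w
  sv : s * v * s⁻¹ * v⁻¹ = w
  aw : ∃ i : ℤ, a * w * a⁻¹ = v * y ^ i
  aaw : a * a * w * (a * a)⁻¹ = w⁻¹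
  cs : ∃ i : ℤ, c * s * c⁻¹ = s ^ 3 * v ^ 5 * y ^ i
  cv : ∃ i : ℤ, c * v * c⁻¹ = s ^ 3 * v ^ 3 * w * y ^ i
  s7 : s ^ 7 ∈ zpowers y
  v7 : v ^ 7 ∈ zpowers y

/-- the relations in the central extension -/
theorem lift {C H : Type*} [Group C] [Group H] (π : C →* H) (hπ : Function.Surjective π) {y : C}
    (hk : ∀ g, π g = 1 → g ∈ zpowers y) (hy : π y = 1) (hyc : ∀ g, g * y = y * g) (hy7 : orderOf y = 7)
    {w' v' s' a' c' : H} (h : HeLoc w' v' s' a' c') : ∃ w v s a c : C, Loc y w v s a c := by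
  obtain ⟨v, rfl⟩ := hπ v'
  obtain ⟨s, rfl⟩ := hπ s'
  obtain ⟨a, rfl⟩ := hπ a'
  obtain ⟨c, rfl⟩ := hπ c'
  have hy71 : y ^ 7 = 1 := by rw [← hy7, pow_orderOf_eq_one]
  have hcen : ∀ {k : C}, π k = 1 → ∀ g, g * k = k * g := fun {k} h g => central_of_ker hk hyc h g
  have hk7 : ∀ {k : C}, π k = 1 → k ^ 7 = 1 := by
    intro k hk1
    obtain ⟨i, rfl⟩ := mem_zpowers_iff.1 (hk k hk1)
    rw [← zpow_natCast, ← zpow_mul, mul_comm, zpow_mul, zpow_natCast, hy71, one_zpow]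
  have hce : ∀ {g g' h h' : C}, π g = π g' → π h = π h' → g * h * g⁻¹ * h⁻¹ = g' * h' * g'⁻¹ * h'⁻¹ :=
    fun hg hh => comm_eq hk hyc hg hh
  obtain ⟨w, hw⟩ : ∃ w, w = s * v * s⁻¹ * v⁻¹ := ⟨_, rfl⟩
  have hπw : π w = w' := by
    rw [hw, map_mul, map_mul, map_mul, map_inv, map_inv, h.sv]
    group
  rw [← hπw] at h
  -- the commutators `α = [w, s]`, `β = [w, v]`
  obtain ⟨α, hα⟩ : ∃ α, α = w * s * w⁻¹ * s⁻¹ := ⟨_, rfl⟩
  obtain ⟨β, hβ⟩ : ∃ β, β = w * v * w⁻¹ * v⁻¹ := ⟨_, rfl⟩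
  have hπα : π α = 1 := by
    rw [hα, map_mul, map_mul, map_mul, map_inv, map_inv, h.ws]
    group
  have hπβ : π β = 1 := by
    rw [hβ, map_mul, map_mul, map_mul, map_inv, map_inv, h.wv]
    group
  -- commutators with powers
  have hpow : ∀ {x : C}, π (w * x * w⁻¹ * x⁻¹) = 1 → ∀ n : ℕ, w * x ^ n * w⁻¹ * (x ^ n)⁻¹ = (w * x * w⁻¹ * x⁻¹) ^ n := by
    intro x hx n
    induction n with
    | zero => group
    | succ n ih =>
      rw [pow_succ' x n, comm_mul (fun g => hcen (by rw [ih, map_pow, hx, one_pow]) g), ih, ← pow_succ']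
  have hπα' : π (w * s * w⁻¹ * s⁻¹) = 1 := hα ▸ hπα
  have hπβ' : π (w * v * w⁻¹ * v⁻¹) = 1 := hβ ▸ hπβ
  have e1 : α = α ^ 3 * β ^ 5 := by
    have e2 : w * (s ^ 3 * v ^ 5) * w⁻¹ * (s ^ 3 * v ^ 5)⁻¹ = α ^ 3 * β ^ 5 := by
      rw [comm_mul (fun g => hcen (by rw [hpow hπβ', map_pow, hπβ', one_pow]) g), hpow hπα', hpow hπβ', ← hα, ← hβ]
    rw [← e2]
    have e3 : c * α * c⁻¹ = α := by rw [hcen hπα c, mul_inv_cancel_right]
    rw [← e3, hα]
    have e4 : c * (w * s * w⁻¹ * s⁻¹) * c⁻¹ = (c * w * c⁻¹) * (c * s * c⁻¹) * (c * w * c⁻¹)⁻¹ * (c * s * c⁻¹)⁻¹ := by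
      group
    rw [e4]
    apply hce
    · rw [map_mul, map_mul, map_inv, h.cw, mul_inv_cancel_right]
    · rw [map_mul, map_mul, map_inv, h.cs, mul_inv_cancel_right, map_mul, map_pow, map_pow]
  have e2 : β = α ^ 3 * β ^ 3 := by
    have e2 : w * (s ^ 3 * v ^ 3 * w) * w⁻¹ * (s ^ 3 * v ^ 3 * w)⁻¹ = α ^ 3 * β ^ 3 := by
      have e3 : w * (s ^ 3 * v ^ 3 * w) * w⁻¹ * (s ^ 3 * v ^ 3 * w)⁻¹ =
          w * (s ^ 3 * v ^ 3) * w⁻¹ * (s ^ 3 * v ^ 3)⁻¹ := by group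
      rw [e3, comm_mul (fun g => hcen (by rw [hpow hπβ', map_pow, hπβ', one_pow]) g), hpow hπα', hpow hπβ', ← hα, ← hβ]
    rw [← e2]
    have e3 : c * β * c⁻¹ = β := by rw [hcen hπβ c, mul_inv_cancel_right]
    rw [← e3, hβ]
    have e4 : c * (w * v * w⁻¹ * v⁻¹) * c⁻¹ = (c * w * c⁻¹) * (c * v * c⁻¹) * (c * w * c⁻¹)⁻¹ * (c * v * c⁻¹)⁻¹ := by
      group
    rw [e4]
    apply hce
    · rw [map_mul, map_mul, map_inv, h.cw, mul_inv_cancel_right]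
    · rw [map_mul, map_mul, map_inv, h.cv, mul_inv_cancel_right, map_mul, map_mul, map_pow, map_pow]
  have cab : Commute α β := hcen hπβ α
  have f1 : α ^ 2 * β ^ 5 = 1 := by
    have : α * (α ^ 2 * β ^ 5) = α := by
      rw [← mul_assoc, ← pow_succ', ← e1]
    exact mul_eq_left.1 this
  have f2 : α ^ 3 * β ^ 2 = 1 := by
    have : (α ^ 3 * β ^ 2) * β = β := by
      rw [mul_assoc, ← pow_succ, ← e2]
    exact mul_eq_right.1 this
  have fα := hk7 hπα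
  have fβ := hk7 hπβ
  have f3 : α ^ 4 * β ^ 3 = 1 := by
    have : (α ^ 2 * β ^ 5) ^ 2 = α ^ 4 * β ^ 3 := by
      rw [(cab.pow_pow 2 5).mul_pow, ← pow_mul, ← pow_mul, show 5 * 2 = 7 + 3 by norm_num, pow_add β, fβ, one_mul]
    rw [← this, f1, one_pow]
  have f4 : α * β ^ 3 = 1 := by
    have : (α ^ 3 * β ^ 2) ^ 5 = α * β ^ 3 := by
      rw [(cab.pow_pow 3 2).mul_pow, ← pow_mul, ← pow_mul, show 2 * 5 = 7 + 3 by norm_num, pow_add β, fβ, one_mul,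
        show 3 * 5 = 7 + (7 + 1) by norm_num, pow_add α, pow_add α, fα, one_mul, one_mul, pow_one]
    rw [← this, f2, one_pow]
  have f5 : α = 1 := by
    have g1 : α ^ 3 = 1 := by
      have : α ^ 3 * (α * β ^ 3) = 1 := by rw [← mul_assoc, ← pow_succ, f3]
      rwa [f4, mul_one] at this
    have g2 : α ^ 7 = (α ^ 3) ^ 2 * α := by rw [← pow_mul, ← pow_succ]
    rw [fα, g1, one_pow, one_mul] at g2
    exact g2.symm
  have f6 : β = 1 := by
    have g1 : β ^ 3 = 1 := by rwa [f5, one_mul] at f4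
    have g2 : β ^ 7 = (β ^ 3) ^ 2 * β := by rw [← pow_mul, ← pow_succ]
    rw [fβ, g1, one_pow, one_mul] at g2
    exact g2.symm
  have hws : w * s = s * w := by
    rw [f5] at hα
    have := hα.symm
    rw [mul_inv_eq_one, mul_inv_eq_iff_eq_mul] at this
    exact this
  have hwv : w * v = v * w := by
    rw [f6] at hβ
    have := hβ.symm
    rw [mul_inv_eq_one, mul_inv_eq_iff_eq_mul] at this
    exact this
  have hsp : ∀ n : ℕ, s ^ n * v * (s ^ n)⁻¹ * v⁻¹ = w ^ n := by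
    intro n
    induction n with
    | zero => group
    | succ n ih =>
      have g1 : s ^ (n + 1) * v * (s ^ (n + 1))⁻¹ * v⁻¹ = s * (s ^ n * v * (s ^ n)⁻¹ * v⁻¹) * s⁻¹ * (s * v * s⁻¹ * v⁻¹) := by
        rw [pow_succ']
        group
      have g2 : s * w ^ n * s⁻¹ = w ^ n := by
        have : Commute s w := hws.symm
        rw [(this.pow_right n).eq, mul_inv_cancel_right]
      rw [g1, ih, ← hw, g2, ← pow_succ]
  have hw7 : w ^ 7 = 1 := by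
    rw [← hsp 7]
    have g1 : π (s ^ 7) = 1 := by rw [map_pow, h.s7]
    rw [← hcen g1 v]
    group
  have hw1 : w ≠ 1 := fun h1 => h.w1 (by rw [h1, map_one])
  have hv7 : π (v ^ 7) = 1 := by
    have g1 : π a * π w * (π a)⁻¹ = π v := by rw [h.aw, mul_inv_cancel_right]
    rw [map_pow, ← g1, conj_pow, h.w7, mul_one, mul_inv_cancel]
  have hmem : ∀ {g g' : C}, π g = π g' → ∃ i : ℤ, g = g' * y ^ i := by
    intro g g' hg
    obtain ⟨i, hi⟩ := mem_zpowers_iff.1 (hk (g'⁻¹ * g) (by rw [map_mul, map_inv, hg, inv_mul_cancel]))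
    exact ⟨i, by rw [hi]; group⟩
  refine ⟨w, v, s, a, c, ⟨hy7, hyc w, hyc v, hyc s, hyc a, hyc c, hw7, hw1, ?_, hws, hwv, ?_, hw.symm, ?_, ?_, ?_, ?_,
    hk _ (by rw [map_pow, h.s7]), hk _ hv7⟩⟩
  · intro h1
    obtain ⟨i, hi⟩ := mem_zpowers_iff.1 h1
    exact h.w1 (by rw [← hi, map_zpow, hy, one_zpow])
  · -- `c` commutes with `w`
    have g1 : π (c * w * c⁻¹) = π w := by rw [map_mul, map_mul, map_inv, h.cw, mul_inv_cancel_right]
    obtain ⟨i, hi⟩ := hmem g1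
    have g2 : ∀ g, g * y ^ i = y ^ i * g := fun g => ((show Commute g y from hyc g).zpow_right i).eq
    have g3 : c ^ 3 * w * (c ^ 3)⁻¹ = w * (y ^ i) ^ 3 := by
      have g4 : ∀ u : C, c * (u * y ^ i) * c⁻¹ = (c * u * c⁻¹) * y ^ i := by
        intro u
        calc c * (u * y ^ i) * c⁻¹ = c * u * (y ^ i * c⁻¹) := by group
          _ = c * u * (c⁻¹ * y ^ i) := by rw [g2]
          _ = (c * u * c⁻¹) * y ^ i := by group
      calc c ^ 3 * w * (c ^ 3)⁻¹ = c * (c * (c * w * c⁻¹) * c⁻¹) * c⁻¹ := by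
            rw [pow_succ, pow_succ, pow_one]; group
        _ = c * (c * (w * y ^ i) * c⁻¹) * c⁻¹ := by rw [hi]
        _ = c * ((c * w * c⁻¹) * y ^ i) * c⁻¹ := by rw [g4]
        _ = (c * (w * y ^ i) * c⁻¹) * y ^ i := by rw [g4, hi]
        _ = (c * w * c⁻¹) * y ^ i * y ^ i := by rw [g4]
        _ = w * (y ^ i) ^ 3 := by rw [hi]; rw [pow_succ, pow_succ, pow_one]; group
    have g4 : (y ^ i) ^ 3 = 1 := by
      have g5 : π (c ^ 3) = 1 := by rw [map_pow, h.c3]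
      rw [← hcen g5 w, mul_inv_cancel_right] at g3
      exact mul_eq_left.1 g3.symm
    have g5 : (y ^ i) ^ 7 = 1 := by
      rw [← zpow_natCast, ← zpow_mul, mul_comm, zpow_mul, zpow_natCast, hy71, one_zpow]
    have g6 : y ^ i = 1 := by
      have g7 : (y ^ i) ^ 7 = ((y ^ i) ^ 3) ^ 2 * y ^ i := by rw [← pow_mul, ← pow_succ]
      rw [g5, g4, one_pow, one_mul] at g7
      exact g7.symm
    rw [g6, mul_one, mul_inv_eq_iff_eq_mul] at hi
    exact hi.symm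
  · exact hmem (by rw [map_mul, map_mul, map_inv, h.aw, mul_inv_cancel_right])
  · -- `a ^ 2` inverts `w`
    have g1 : a * a * w * (a * a)⁻¹ = ((a * a) * s * (a * a)⁻¹) * ((a * a) * v * (a * a)⁻¹) *
        ((a * a) * s * (a * a)⁻¹)⁻¹ * ((a * a) * v * (a * a)⁻¹)⁻¹ := by
      rw [hw]; group
    have g0 : π a * π v * (π a)⁻¹ = (π w)⁻¹ := by
      apply eq_inv_of_mul_eq_one_right
      calc π w * (π a * π v * (π a)⁻¹) = (π w * π a * π v) * (π a)⁻¹ := by group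
        _ = 1 := by rw [h.av, mul_inv_cancel]
    have g2 : π ((a * a) * v * (a * a)⁻¹) = π v⁻¹ := by
      have g3 : π ((a * a) * v * (a * a)⁻¹) = π a * (π a * π v * (π a)⁻¹) * (π a)⁻¹ := by
        simp only [map_mul, map_inv]; group
      have g4 : π a * (π w)⁻¹ * (π a)⁻¹ = (π a * π w * (π a)⁻¹)⁻¹ := by group
      rw [g3, g0, g4, h.aw, mul_inv_cancel_right, map_inv]
    have g3 : π ((a * a) * s * (a * a)⁻¹) = π s := by
      rw [map_mul, map_mul, map_inv, map_mul, h.as, mul_inv_cancel_right]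
    rw [g1, hce g3 g2, inv_inv]
    -- `[s, v⁻¹] = w⁻¹`
    have g4 : s * v⁻¹ * s⁻¹ * v = v⁻¹ * (s * v * s⁻¹ * v⁻¹)⁻¹ * v := by group
    rw [g4, ← hw]
    have : Commute v w⁻¹ := (show Commute v w from hwv.symm).inv_right
    rw [mul_assoc, ← this.eq, inv_mul_cancel_left]
  · obtain ⟨i, hi⟩ := hmem (g := c * s * c⁻¹) (g' := s ^ 3 * v ^ 5) (by
      rw [map_mul, map_mul, map_inv, h.cs, mul_inv_cancel_right, map_mul, map_pow, map_pow])
    exact ⟨i, hi⟩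
  · obtain ⟨i, hi⟩ := hmem (g := c * v * c⁻¹) (g' := s ^ 3 * v ^ 3 * w) (by
      rw [map_mul, map_mul, map_inv, h.cv, mul_inv_cancel_right, map_mul, map_mul, map_pow, map_pow])
    exact ⟨i, hi⟩

end Cfsg.Agent.H961.SevLift
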