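import Cfsg.Agent.H961.SevX
import Cfsg.Agent.H961.SevFin
import Cfsg.Agent.H961.SevD
import Cfsg.Agent.H961.HeLocal
import Cfsg.Agent.H961.SevLift
import Cfsg.Agent.CpAutMSeven.ZeroComps

/-!
# The Monster has no radical elements of order 7 (helper961)
-/

set_option autoImplicit false
set_option maxRecDepth 100000

namespace Cfsg.Agent.H961.SevM

open Cfsg Cfsg.Spor Subgroup
open Cfsg.Agent.MonsterX Cfsg.Agent.MonsterX.InstData
open Cfsg.Agent.MonsterP
open Cfsg.Agent.LThreeMB (fr XX Zx zD self self_mem_center toXX toCC be be_coe KChart.Cent KChart.pi KChart.chart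
  exists_XX_equiv)
open Cfsg.Agent.H459.Rad Cfsg.Agent.H839.Rad
open Cfsg.Agent.H961.HeLocal Cfsg.Agent.H961.SevLift
open Cfsg.Agent.CpAutMSeven.ZeroComps (heSix)
open Cfsg.Agent.BpRankZero

/-- the relations under injective maps -/
theorem map_loc {K L : Type*} [Group K] [Group L] {y w v s a c : K} (h : Loc y w v s a c) (f : K →* L)
    (hf : Function.Injective f) : Loc (f y) (f w) (f v) (f s) (f a) (f c) where
  y7 := by rw [orderOf_injective f hf, h.y7]
  yw := by rw [← map_mul, h.yw, map_mul]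
  yv := by rw [← map_mul, h.yv, map_mul]
  ys := by rw [← map_mul, h.ys, map_mul]
  ya := by rw [← map_mul, h.ya, map_mul]
  yc := by rw [← map_mul, h.yc, map_mul]
  w7 := by rw [← map_pow, h.w7, map_one]
  w1 := fun h1 => h.w1 (hf (h1.trans (map_one f).symm))
  wy := by
    intro h1
    obtain ⟨i, hi⟩ := mem_zpowers_iff.1 h1
    rw [← map_zpow] at hi
    exact h.wy (mem_zpowers_iff.2 ⟨i, hf hi⟩)
  ws := by rw [← map_mul, h.ws, map_mul]
  wv := by rw [← map_mul, h.wv, map_mul]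
  wc := by rw [← map_mul, h.wc, map_mul]
  sv := by rw [← map_inv, ← map_inv, ← map_mul, ← map_mul, ← map_mul, h.sv]
  aw := by
    obtain ⟨i, hi⟩ := h.aw
    exact ⟨i, by rw [← map_inv, ← map_mul, ← map_mul, hi, map_mul, map_zpow]⟩
  aaw := by rw [← map_mul, ← map_mul, ← map_inv, ← map_mul, h.aaw, map_inv]
  cs := by
    obtain ⟨i, hi⟩ := h.cs
    exact ⟨i, by rw [← map_inv, ← map_mul, ← map_mul, hi, map_mul, map_mul, map_pow, map_pow, map_zpow]⟩
  cv := by
    obtain ⟨i, hi⟩ := h.cv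
    exact ⟨i, by rw [← map_inv, ← map_mul, ← map_mul, hi, map_mul, map_mul, map_mul, map_pow, map_pow, map_zpow]⟩
  s7 := by
    obtain ⟨i, hi⟩ := mem_zpowers_iff.1 h.s7
    exact mem_zpowers_iff.2 ⟨i, by rw [← map_zpow, hi, map_pow]⟩
  v7 := by
    obtain ⟨i, hi⟩ := mem_zpowers_iff.1 h.v7
    exact mem_zpowers_iff.2 ⟨i, by rw [← map_zpow, hi, map_pow]⟩

section chart

variable {G : Type*} [Group G] {Q : Subgroup G} {z : G} {eta : G → Cfsg.Agent.MonsterU.Lam2.L2}
  {pi : Subgroup.centralizer ({z} : Set G) →* Co1}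

/-- the kernel of `C(x) ∩ C(z) → C(pi x)/⟨pi x⟩` -/
theorem ker_toXX (h : Cfsg.Agent.MonsterU.Ch.Chart Q z eta pi) {x : Subgroup.centralizer ({z} : Set G)} (hx : x ^ 7 = 1)
    (hfr : fr (pi x) = 1) (u : ↥(centralizer ({zD x} : Set ↥(centralizer ({(x : G)} : Set G)))))
    (hu : toXX pi x u = 1) :
    ∃ i j : ℤ, (u : ↥(centralizer ({(x : G)} : Set G))) = self (x : G) ^ i * zD x ^ j := by
  have h1 : be pi x (toCC x u) ∈ Zx (pi x) := (QuotientGroup.eq_one_iff _).1 hu
  obtain ⟨i, hi⟩ := mem_zpowers_iff.1 h1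
  have hi' : pi x ^ i = pi ⟨((u : ↥(centralizer ({(x : G)} : Set G))) : G), (Subgroup.mem_inf.1 (toCC x u).2).1⟩ :=
    congrArg Subtype.val hi
  -- `u x^{-i}` lies in `Q` and commutes with `x`
  obtain ⟨u', hu'⟩ : ∃ u' : Subgroup.centralizer ({z} : Set G), u' =
    ⟨((u : ↥(centralizer ({(x : G)} : Set G))) : G), (Subgroup.mem_inf.1 (toCC x u).2).1⟩ := ⟨_, rfl⟩
  rw [← hu'] at hi'
  have hux : ((u : ↥(centralizer ({(x : G)} : Set G))) : G) * x = x * (u : ↥(centralizer ({(x : G)} : Set G))) :=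
    mem_centralizer_singleton_iff.1 (u : ↥(centralizer ({(x : G)} : Set G))).2
  have hu'c : (u' : G) = (u : ↥(centralizer ({(x : G)} : Set G))) := by rw [hu']
  have h2 : pi (x ^ (-i) * u') = 1 := by
    rw [map_mul, map_zpow, ← hi', ← zpow_add, neg_add_cancel, zpow_zero]
  have h3 : ((x ^ (-i) * u' : Subgroup.centralizer ({z} : Set G)) : G) ∈ Q := (h.pi_eq_one _).1 h2
  have h4 : (x : G) * ((x ^ (-i) * u' : Subgroup.centralizer ({z} : Set G)) : G) =
      ((x ^ (-i) * u' : Subgroup.centralizer ({z} : Set G)) : G) * x := by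
    rw [Subgroup.coe_mul, Subgroup.coe_zpow, hu'c]
    have e1 : Commute (x : G) ((x : G) ^ (-i)) := (Commute.refl (x : G)).zpow_right (-i)
    have e2 : Commute (x : G) ((u : ↥(centralizer ({(x : G)} : Set G))) : G) := hux.symm
    exact (e1.mul_right e2).eq
  have h5 : ((x ^ (-i) * u' : Subgroup.centralizer ({z} : Set G)) : G) = 1 ∨
      ((x ^ (-i) * u' : Subgroup.centralizer ({z} : Set G)) : G) = z :=
    Cfsg.Agent.PreUniq.MonGen.free_of_fr h (by decide) hx hfr h3 h4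
  rw [Subgroup.coe_mul, Subgroup.coe_zpow, hu'c] at h5
  rcases h5 with h5 | h5
  · refine ⟨i, 0, Subtype.ext ?_⟩
    rw [zpow_zero, mul_one, Subgroup.coe_zpow]
    change ((u : ↥(centralizer ({(x : G)} : Set G))) : G) = (x : G) ^ i
    rw [zpow_neg, inv_mul_eq_one] at h5
    exact h5.symm
  · refine ⟨i, 1, Subtype.ext ?_⟩
    rw [zpow_one, Subgroup.coe_mul, Subgroup.coe_zpow]
    change ((u : ↥(centralizer ({(x : G)} : Set G))) : G) = (x : G) ^ i * z
    rw [zpow_neg, inv_mul_eq_iff_eq_mul] at h5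
    exact h5

end chart

section QQs

variable {K : Type*} [Group K] [Finite K] {w : K}

theorem qq_of {Q : Subgroup ↥(centralizer ({w} : Set K))} (hn : Q.Normal) (hp : IsPGroup 7 ↥Q) (hw : self w ∈ Q)
    (hcomm : ∀ a ∈ Q, ∀ b ∈ Q, a * b * a⁻¹ * b⁻¹ ∈ zpowers (self w)) (hcard : Nat.card ↥Q = 7 ^ 5)
    (hrad : ∀ x ∈ solvableRadical ↥(centralizer ({w} : Set K)), (∃ k : ℕ, x ^ 7 ^ k = 1) → x ∈ Q)
    (hirr : ∀ U : Subgroup ↥(centralizer ({w} : Set K)), U.Normal → self w ∈ U → U ≤ Q → U ≠ zpowers (self w) → U = Q) :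
    QQ w (Q.map (centralizer ({w} : Set K)).subtype) where
  le := map_subtype_le Q
  norm := by
    rintro d hd _ ⟨q, hq, rfl⟩
    exact ⟨_, hn.conj_mem q hq ⟨d, mem_centralizer_singleton_iff.2 hd⟩, rfl⟩
  pgroup := hp.map _
  mem := ⟨_, hw, rfl⟩
  comm := by
    rintro _ ⟨a, ha, rfl⟩ _ ⟨b, hb, rfl⟩
    obtain ⟨i, hi⟩ := mem_zpowers_iff.1 (hcomm a ha b hb)
    exact mem_zpowers_iff.2 ⟨i, congrArg Subtype.val hi⟩
  card := by
    rw [← hcard]
    exact card_map_of_injective (subtype_injective _)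
  max := by
    have : Fact (Nat.Prime 7) := ⟨by norm_num⟩
    intro B hB hBn hBp b hb
    have h1 : (B.subgroupOf (centralizer ({w} : Set K))).Normal := ⟨by
      intro q hq d
      exact mem_subgroupOf.2 (hBn d (mem_centralizer_singleton_iff.1 d.2) q (mem_subgroupOf.1 hq))⟩
    have h2 : IsPGroup 7 ↥(B.subgroupOf (centralizer ({w} : Set K))) :=
      hBp.comap_of_injective _ (subtype_injective _)
    have h3 : Group.IsSolvable ↥(B.subgroupOf (centralizer ({w} : Set K))) := by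
      have := h2.isNilpotent
      infer_instance
    have h4 := le_rad h1 h3
    have h5 : (⟨b, hB hb⟩ : ↥(centralizer ({w} : Set K))) ∈ B.subgroupOf (centralizer ({w} : Set K)) :=
      mem_subgroupOf.2 hb
    obtain ⟨k, hk⟩ := h2 ⟨_, h5⟩
    exact ⟨_, hrad _ (h4 h5) ⟨k, congrArg Subtype.val hk⟩, rfl⟩
  irr := by
    intro U hUn hwU hUQ hUw
    have hUC : U ≤ centralizer ({w} : Set K) := hUQ.trans (map_subtype_le Q)
    have e1 : (U.subgroupOf (centralizer ({w} : Set K))).map (centralizer ({w} : Set K)).subtype = U := by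
      rw [subgroupOf_map_subtype, inf_eq_left.2 hUC]
    have h1 := hirr (U.subgroupOf (centralizer ({w} : Set K))) ⟨by
      intro q hq d
      exact mem_subgroupOf.2 (hUn d (mem_centralizer_singleton_iff.1 d.2) q (mem_subgroupOf.1 hq))⟩
      (mem_subgroupOf.2 hwU) (by
        intro q hq
        obtain ⟨q', hq', he⟩ := hUQ (mem_subgroupOf.1 hq)
        have : q' = q := Subtype.ext he
        rwa [← this]) (by
        intro h2
        apply hUw
        rw [← e1, h2, MonoidHom.map_zpowers]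
        rfl)
    rw [← e1, h1]

end QQs

section model

theorem card_model : Nat.card ↥InstData.M.G = 808017424794512875886459904961710757005754368000000000 :=
  MonsterP.EquivOf.isM_model.2

theorem card_he {x : centralizer ({KDone.K.z} : Set ↥InstData.M.G)} (hx : orderOf x = 7)
    (hfr : fr (KChart.pi MFive.Row.hc x) = 2 ^ 6) :
    Nat.card ↥(centralizer ({(x : ↥InstData.M.G)} : Set ↥InstData.M.G)) = 4030387200 * 7 := by
  rw [SevX.card_cent, (MRow.he_facts (heSix x hx hfr)).2, Subgroup.orderOf_coe, hx]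

/-- the configuration in the Monster -/
theorem exists_data : ∃ y w v s a c : ↥InstData.M.G, Loc y w v s a c ∧
    ¬ 7 ^ 5 ∣ Nat.card ↥(centralizer ({y} : Set ↥InstData.M.G)) ∧ ∃ t : ↥InstData.M.G, t * y * t⁻¹ = y⁻¹ := by
  obtain ⟨r, hr, hfr⟩ := MRow.exists_six
  have hHe := heSix r hr hfr
  obtain ⟨w', v', s', a', c', hloc⟩ := exists_loc hHe
  obtain ⟨w, v, s, a, c, hL⟩ := lift (QuotientGroup.mk' (Zx (r : ↥InstData.M.G))) (QuotientGroup.mk'_surjective _)
    (y := self (r : ↥InstData.M.G)) (fun g hg => by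
      rw [← MonoidHom.mem_ker, QuotientGroup.ker_mk'] at hg
      exact hg)
    (by rw [← MonoidHom.mem_ker, QuotientGroup.ker_mk']; exact mem_zpowers _)
    (fun g => mem_center_iff.1 (self_mem_center (r : ↥InstData.M.G)) g)
    (by rw [← Subgroup.orderOf_coe]; exact (Subgroup.orderOf_coe r).trans hr) hloc
  refine ⟨_, _, _, _, _, _, map_loc hL (centralizer ({(r : ↥InstData.M.G)} : Set ↥InstData.M.G)).subtype
    (subtype_injective _), ?_, ?_⟩
  · change ¬ 7 ^ 5 ∣ Nat.card ↥(centralizer ({(r : ↥InstData.M.G)} : Set ↥InstData.M.G))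
    rw [card_he hr hfr]
    norm_num
  · obtain ⟨t, ht⟩ := MSix.exists_inverting (KChart.chart KDone.lft MFive.Row.hc) hr hfr
    exact ⟨t, congrArg Subtype.val ht⟩

/-- conjugation: `w` commutes with `z` -/
theorem exists_data' : ∃ (y v s a c : ↥InstData.M.G) (w : centralizer ({KDone.K.z} : Set ↥InstData.M.G)),
    Loc y (w : ↥InstData.M.G) v s a c ∧ ¬ 7 ^ 5 ∣ Nat.card ↥(centralizer ({y} : Set ↥InstData.M.G)) := by
  have := MFive.Row.finite_model
  have hp7 : Nat.Prime 7 := by norm_num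
  have : Fact (Nat.Prime 7) := ⟨hp7⟩
  obtain ⟨y, w, v, s, a, c, hL, h5, t, ht⟩ := exists_data
  obtain ⟨b, hb, hbw⟩ := hL.exists_inv h5 ht
  have hwo : orderOf w = 7 := orderOf_eq_prime hL.w7 hL.w1
  -- `b` has even order
  have hbe : 2 ∣ orderOf b := by
    by_contra hodd
    have hodd' : Odd (orderOf b) := by
      rw [← Nat.not_even_iff_odd, even_iff_two_dvd]
      exact hodd
    obtain ⟨m, hm⟩ := hodd'
    have h2 : ∀ k : ℕ, (b * b) ^ k * y * ((b * b) ^ k)⁻¹ = y := by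
      intro k
      have h3 : Commute (b * b) y := by
        have h4 : b * y⁻¹ * b⁻¹ = y := by
          have : b * y⁻¹ * b⁻¹ = (b * y * b⁻¹)⁻¹ := by group
          rw [this, hb, inv_inv]
        have h5 : b * b * y * (b * b)⁻¹ = y := by
          calc b * b * y * (b * b)⁻¹ = b * (b * y * b⁻¹) * b⁻¹ := by group
            _ = y := by rw [hb, h4]
        exact mul_inv_eq_iff_eq_mul.1 h5
      rw [(h3.pow_left k).eq, mul_inv_cancel_right]
    have h3 : (b * b) ^ m * b = 1 := by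
      rw [← pow_two, ← pow_mul, ← pow_succ, ← hm, pow_orderOf_eq_one]
    have h4 : b⁻¹ = (b * b) ^ m := (eq_inv_of_mul_eq_one_left h3).symm
    have h5 := h2 m
    rw [← h4, inv_inv] at h5
    have h6 : y⁻¹ = y := by
      rw [← hb]
      calc b * y * b⁻¹ = b * (b⁻¹ * y * b) * b⁻¹ := by rw [h5]
        _ = y := by group
    have h7 : y ^ 2 = 1 := by
      rw [pow_two]
      nth_rw 1 [← h6]
      exact inv_mul_cancel y
    have h8 := orderOf_dvd_of_pow_eq_one h7
    rw [hL.y7] at h8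
    norm_num at h8
  have hCe : ¬ Odd (Nat.card ↥(centralizer ({w} : Set ↥InstData.M.G))) := by
    rw [Nat.not_odd_iff_even, even_iff_two_dvd]
    refine hbe.trans ?_
    have h1 : orderOf (⟨b, mem_centralizer_singleton_iff.2 hbw⟩ : ↥(centralizer ({w} : Set ↥InstData.M.G))) ∣ _ :=
      orderOf_dvd_natCard _
    rwa [Subgroup.orderOf_mk] at h1
  obtain ⟨g, hg⟩ := MSevenT.hexOdd w hwo hCe
  have h1 : (g⁻¹ * w * g) * KDone.K.z = KDone.K.z * (g⁻¹ * w * g) := by
    calc (g⁻¹ * w * g) * KDone.K.z = g⁻¹ * (w * (g * KDone.K.z * g⁻¹)) * g := by group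
      _ = g⁻¹ * ((g * KDone.K.z * g⁻¹) * w) * g := by rw [hg]
      _ = KDone.K.z * (g⁻¹ * w * g) := by group
  have hL' := map_loc hL (MulAut.conj g⁻¹).toMonoidHom (MulAut.conj g⁻¹).injective
  have e1 : (MulAut.conj g⁻¹).toMonoidHom w = g⁻¹ * w * g := by
    change g⁻¹ * w * g⁻¹⁻¹ = _
    rw [inv_inv]
  rw [e1] at hL'
  refine ⟨_, _, _, _, _, ⟨g⁻¹ * w * g, mem_centralizer_singleton_iff.2 h1⟩, hL', ?_⟩
  obtain ⟨⟨e⟩, -⟩ := exists_XX_equiv (x := (MulAut.conj g⁻¹).toMonoidHom y) (x' := y) (g := g⁻¹) rfl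
  rwa [← Nat.card_congr e.toEquiv]

/-- `w` has fixed rank 0 -/
theorem fr_eq_one {y v s a c : ↥InstData.M.G} {w : centralizer ({KDone.K.z} : Set ↥InstData.M.G)}
    (hL : Loc y (w : ↥InstData.M.G) v s a c) (h5 : ¬ 7 ^ 5 ∣ Nat.card ↥(centralizer ({y} : Set ↥InstData.M.G)))
    (hw : orderOf w = 7) : fr (KChart.pi MFive.Row.hc w) = 1 := by
  have := MFive.Row.finite_model
  have hp7 : Nat.Prime 7 := by norm_num
  have : Fact (Nat.Prime 7) := ⟨hp7⟩
  rcases CpAutMSeven.Ranks.hranks _ (MFive.orderOf_pi (KChart.chart KDone.lft MFive.Row.hc) hp7 (by decide) hw) with h | h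
  · exact h
  · exfalso
    obtain ⟨P, -, hP⟩ := hL.sylow_le h5 (by rw [card_model]; norm_num)
    have h1 : 7 ^ 6 ∣ Nat.card ↥(P : Subgroup ↥InstData.M.G) := by
      rw [P.card_eq_multiplicity]
      exact pow_dvd_pow 7 ((hp7.pow_dvd_iff_le_factorization Nat.card_pos.ne').1 (by rw [card_model]; norm_num))
    have h2 := h1.trans (card_dvd_of_le hP)
    rw [card_he hw h] at h2
    norm_num at h2

/-- **`Q = O_7(C(w))`** -/
theorem exists_qq {y v s a c : ↥InstData.M.G} {w : centralizer ({KDone.K.z} : Set ↥InstData.M.G)}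
    (hL : Loc y (w : ↥InstData.M.G) v s a c) (h5 : ¬ 7 ^ 5 ∣ Nat.card ↥(centralizer ({y} : Set ↥InstData.M.G))) :
    ∃ Q : Subgroup ↥InstData.M.G, QQ (w : ↥InstData.M.G) Q ∧
      ∀ x : ↥(centralizer ({(w : ↥InstData.M.G)} : Set ↥InstData.M.G)),
        x ∈ solvableRadical ↥(centralizer ({(w : ↥InstData.M.G)} : Set ↥InstData.M.G)) →
        (∃ k : ℕ, x ^ 7 ^ k = 1) → (x : ↥InstData.M.G) ∈ Q := by
  have := MFive.Row.finite_model
  have hp7 : Nat.Prime 7 := by norm_num
  have : Fact (Nat.Prime 7) := ⟨hp7⟩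
  have hwo' : orderOf (w : ↥InstData.M.G) = 7 := orderOf_eq_prime hL.w7 hL.w1
  have hwo : orderOf w = 7 := by rw [← Subgroup.orderOf_coe, hwo']
  have hw7 : w ^ 7 = 1 := by rw [← hwo, pow_orderOf_eq_one]
  have hfr := fr_eq_one hL h5 hwo
  have h := KChart.chart KDone.lft MFive.Row.hc
  obtain ⟨hAs, hAc, hA⟩ := SevX.xx_facts (MFive.orderOf_pi h hp7 (by decide) hwo) hfr
  have hfA : Finite (XX (KChart.pi MFive.Row.hc w)) := Nat.finite_of_card_ne_zero (by rw [hA]; norm_num)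
  obtain ⟨P, -, hP⟩ := hL.sylow_le h5 (by rw [card_model]; norm_num)
  have h1 : 7 ^ 6 ∣ Nat.card ↥(P : Subgroup ↥InstData.M.G) := by
    rw [P.card_eq_multiplicity]
    exact pow_dvd_pow 7 ((hp7.pow_dvd_iff_le_factorization Nat.card_pos.ne').1 (by rw [card_model]; norm_num))
  obtain ⟨Q, hQn, hQp, hwQ, hcomm, hQc, hrad, hirr⟩ := SevD.struct (w := self (w : ↥InstData.M.G)) (z := zD w)
    (by rw [← Subgroup.orderOf_coe]; exact hwo') (fun d => mem_center_iff.1 (self_mem_center (w : ↥InstData.M.G)) d)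
    (MFive.orderOf_zD h w) (BpRankZero.Seven.only_zD KDone.lft MFive.Row.hc hw7 hfr) hAc
    (by rw [hA]; norm_num) (by rw [hA]; norm_num) (by rw [hA]; norm_num) rfl (toXX (KChart.pi MFive.Row.hc) w)
    (MFive.toXX_surj h hp7 (by decide) hw7) (ker_toXX h hw7 hfr)
    (PreUniq.MonSeven.not_dvd KDone.lft MFive.Row.hc hw7 hfr) (h1.trans (card_dvd_of_le hP)) (by
      intro h2
      have h3 := h2.trans (card_subgroup_dvd_card _)
      rw [card_model] at h3
      norm_num at h3)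
  exact ⟨_, qq_of hQn hQp hwQ hcomm hQc hrad hirr, fun x hx hk => ⟨x, hrad x hx hk, rfl⟩⟩

theorem not_solvable_co1 : ¬ Group.IsSolvable Co1 := by
  have hs : IsSimpleGroup Co1 := Cfsg.Agent.S0399.result.1
  intro h
  have h1 : (Nat.card Co1).Prime := by
    let _ : CommGroup Co1 :=
      { (inferInstance : Group Co1) with mul_comm := IsSimpleGroup.comm_iff_isSolvable.2 h }
    exact IsSimpleGroup.prime_card
  rw [Cfsg.Agent.S0399.result.2] at h1
  exact absurd h1 (by norm_num)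

theorem radFree_z : RadFree 7 ↥(centralizer ({KDone.K.z} : Set ↥InstData.M.G)) := by
  have := MFive.Row.finite_model
  have hp7 : Nat.Prime 7 := by norm_num
  have h := KChart.chart KDone.lft MFive.Row.hc
  have hs : IsSimpleGroup Co1 := Cfsg.Agent.S0399.result.1
  have hf := Cfsg.Agent.BpSevenCo.Conj.finite_co1
  refine RadFree.of_surj hp7 (KChart.pi MFive.Row.hc) h.pi_surj ?_ (RadFree.of_simple (by norm_num) not_solvable_co1)
  intro x hx ho
  have h1 := MFive.orderOf_pi h hp7 (by decide) ho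
  rw [hx, orderOf_one] at h1
  norm_num at h1

/-- **No radical element of order 7** -/
theorem noRad_model : NoRad 7 ↥InstData.M.G := by
  have := MFive.Row.finite_model
  have hp7 : Nat.Prime 7 := by norm_num
  have : Fact (Nat.Prime 7) := ⟨hp7⟩
  have hc : center ↥InstData.M.G = ⊥ := BpSpor.center_eq_bot_of_card MonsterP.EquivOf.isM_model.1 (by
    rw [card_model]; norm_num)
  have hnc : ∀ {t : ↥InstData.M.G}, t ≠ 1 → t ∉ center ↥InstData.M.G := by
    intro t ht h1
    rw [hc, mem_bot] at h1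
    exact ht h1
  obtain ⟨y, v, s, a, c, w, hL, h5⟩ := exists_data'
  obtain ⟨Q, hQ, hrad⟩ := exists_qq hL h5
  intro x hx hrc hps
  obtain ⟨P, -, hP⟩ := hL.sylow_le h5 (by rw [card_model]; norm_num)
  have hxp : IsPGroup 7 ↥(zpowers x) := IsPGroup.of_card (n := 1) (by rw [Nat.card_zpowers, hx, pow_one])
  obtain ⟨P', hP'⟩ := hxp.exists_le_sylow
  obtain ⟨g, hg⟩ := MulAction.exists_smul_eq ↥InstData.M.G P' P
  have hgx : g * x * g⁻¹ ∈ (P : Subgroup ↥InstData.M.G) := by
    rw [← hg, Sylow.coe_subgroup_smul]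
    exact smul_mem_pointwise_smul x (MulAut.conj g) _ (hP' (mem_zpowers x))
  have hrc' := rc_conj hrc g
  have hps' := ps_conj hps g
  have ho' : orderOf (g * x * g⁻¹) = 7 := by rw [← MulAut.conj_apply, MulEquiv.orderOf_eq, hx]
  have hCw : centralizer ({(w : ↥InstData.M.G)} : Set ↥InstData.M.G) ≠ ⊤ := by
    intro h1
    refine hnc hL.w1 (mem_center_iff.2 fun k => ?_)
    exact mem_centralizer_singleton_iff.1 (h1 ▸ mem_top k)
  have hxQ : g * x * g⁻¹ ∈ Q := hrad ⟨_, hP hgx⟩ (mem_rad hrc' hCw (hP hgx)) ⟨1, Subtype.ext (by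
    change (g * x * g⁻¹) ^ 7 ^ 1 = 1
    rw [pow_one, ← ho', pow_orderOf_eq_one])⟩
  refine hL.final hQ h5 (by rw [card_model]; norm_num) hc hxQ ?_ hps'
  intro hxw
  have h := KChart.chart KDone.lft MFive.Row.hc
  have hz1 : (KDone.K.z : ↥InstData.M.G) ≠ 1 := h.large.z_ne
  obtain ⟨i, hi⟩ := mem_zpowers_iff.1 hxw
  refine false_of_comm ho' hrc' (hnc hz1) ?_ radFree_z
  rw [← hi]
  exact ((show Commute (w : ↥InstData.M.G) KDone.K.z from mem_centralizer_singleton_iff.1 w.2).zpow_left i).eq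

end model

/-- **The Monster has no radical element of order 7.** -/
theorem noRad_M_seven {G : Type*} [Group G] (h : Cfsg.Spor.IsoM G) : NoRad 7 G := by
  have := MFive.Row.finite_model
  obtain ⟨e⟩ := h
  obtain ⟨f⟩ := Cfsg.Agent.MonsterP.Equiv.equiv
  have : Finite G := Finite.of_equiv _ (e.trans f).symm.toEquiv
  exact NoRad.congr (e.trans f) noRad_model

end Cfsg.Agent.H961.SevM
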