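import Mathlib

/-!
# A prime dividing the order once: normal Sylow subgroup or a nonabelian simple section (helper961)
-/

set_option autoImplicit false

namespace Cfsg.Agent.H961.PrimeSection

open Subgroup

universe u

/-- no automorphism of order `p` on `r`-groups of order dividing `N` -/
def Cond (p N : ℕ) : Prop := ∀ r i : ℕ, r.Prime → r ≠ p → 1 ≤ i → r ^ i ∣ N → ¬ p ∣ r ^ i - 1

theorem Cond.mono {p M N : ℕ} (h : Cond p N) (hd : M ∣ N) : Cond p M :=
  fun r i hr hrp hi hdi => h r i hr hrp hi (hdi.trans hd)

theorem aut_eq_one {R : Type*} [Group R] [Finite R] {r p v : ℕ} (hr : r.Prime) [hp : Fact p.Prime]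
    (hrp : r ≠ p) (hR : Nat.card R = r ^ v) (hc : Cond p (r ^ v)) {φ : MulAut R} (hφ : φ ^ p = 1) :
    φ = 1 := by
  classical
  have : Fintype R := Fintype.ofFinite R
  let f : Function.End R := fun x => φ x
  have hfn : ∀ n : ℕ, (f ^ n : Function.End R) = fun x => (φ ^ n : MulAut R) x := by
    intro n
    induction n with
    | zero => rfl
    | succ n ih =>
      rw [pow_succ', ih]
      funext x
      rw [pow_succ']
      rfl
  have hf : f ^ p ^ 1 = 1 := by
    rw [pow_one, hfn, hφ]
    rfl
  have h1 := Equiv.Perm.card_fixedPoints_modEq hf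
  let S : Subgroup R := (φ.toMonoidHom).eqLocus (MonoidHom.id R)
  have hS : Fintype.card f.fixedPoints = Nat.card S := by
    rw [← Nat.card_eq_fintype_card]
    rfl
  rw [hS, ← Nat.card_eq_fintype_card, hR] at h1
  have h2 : Nat.card S ∣ r ^ v := by
    rw [← hR]
    exact card_subgroup_dvd_card S
  obtain ⟨c, hcv, hSc⟩ := (Nat.dvd_prime_pow hr).1 h2
  rw [hSc] at h1
  by_cases hcv' : c = v
  · have h3 : S = ⊤ := by
      apply Subgroup.eq_top_of_card_eq
      rw [hSc, hR, hcv']
    ext x
    have h4 : x ∈ S := by rw [h3]; trivial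
    exact h4
  · exfalso
    obtain ⟨d, rfl⟩ : ∃ d, v = c + d := ⟨v - c, by omega⟩
    have h3 : p ∣ r ^ (c + d) - r ^ c := by
      exact (Nat.modEq_iff_dvd' (Nat.pow_le_pow_right hr.pos (by omega))).1 h1.symm
    have h4 : r ^ (c + d) - r ^ c = r ^ c * (r ^ d - 1) := by
      rw [pow_add, Nat.mul_sub, mul_one]
    rw [h4] at h3
    rcases hp.out.dvd_mul.1 h3 with h5 | h5
    · exact hrp ((Nat.prime_dvd_prime_iff_eq hp.out hr).1 (hp.out.dvd_of_dvd_pow h5)).symm
    · exact hc r d hr hrp (by omega) (pow_dvd_pow r (by omega)) h5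

/-- Coprime case. -/
theorem exists_normal_of_coprime {G : Type*} [Group G] [Finite G] {p : ℕ} [hp : Fact p.Prime]
    (N : Subgroup G) [N.Normal] (hN : ¬ p ∣ Nat.card N) (hG : Nat.card G = p * Nat.card N)
    (hc : Cond p (Nat.card G)) (P : Sylow p G) : P.Normal := by
  have h1 : Nat.card (Sylow p G) = 1 := by
    by_contra hne
    obtain ⟨r, hr, hrd⟩ := Nat.exists_prime_and_dvd hne
    have := Fact.mk hr
    have hrp : r ≠ p := by
      rintro rfl
      have h2 := card_sylow_modEq_one r G
      have h3 : r ∣ 1 := (Nat.modEq_zero_iff_dvd.1 (h2.symm.trans (Nat.modEq_zero_iff_dvd.2 hrd)))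
      exact hr.one_lt.ne' (Nat.dvd_one.1 h3)
    obtain ⟨R⟩ : Nonempty (Sylow r G) := inferInstance
    have hidx : N.index = p := by
      have h2 := N.card_mul_index
      rw [hG, mul_comm] at h2
      exact Nat.eq_of_mul_eq_mul_right Nat.card_pos h2
    have hRN : (R : Subgroup G) ≤ N := by
      intro x hx
      have h3 : (QuotientGroup.mk x : G ⧸ N) = 1 := by
        rw [← orderOf_eq_one_iff]
        have h4 : orderOf (QuotientGroup.mk x : G ⧸ N) ∣ p := by
          rw [← hidx, Subgroup.index_eq_card]
          exact orderOf_dvd_natCard _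
        have h5 : orderOf (QuotientGroup.mk x : G ⧸ N) ∣ orderOf x :=
          orderOf_map_dvd (QuotientGroup.mk' N) x
        obtain ⟨k, hk⟩ := R.2 ⟨x, hx⟩
        have h6 : orderOf x ∣ r ^ k := orderOf_dvd_of_pow_eq_one (congrArg Subtype.val hk)
        have h7 : Nat.Coprime p (r ^ k) :=
          Nat.Coprime.pow_right k ((Nat.coprime_primes hp.out hr).2 hrp.symm)
        exact Nat.eq_one_of_dvd_coprimes h7 h4 (h5.trans h6)
      exact (QuotientGroup.eq_one_iff x).1 h3
    have hsup : normalizer ((R : Subgroup G) : Set G) ⊔ N = ⊤ :=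
      Sylow.normalizer_sup_eq_top' (N := N) R hRN
    have hpH : p ∣ Nat.card (normalizer ((R : Subgroup G) : Set G)) := by
      have h2 : N.relIndex (normalizer ((R : Subgroup G) : Set G)) = p := by
        rw [← Subgroup.relIndex_sup_right, hsup, Subgroup.relIndex_top_right, hidx]
      rw [← h2]
      exact Subgroup.relIndex_dvd_card _ _
    obtain ⟨g, hg⟩ := exists_prime_orderOf_dvd_card' p hpH
    set φ : MulAut (R : Subgroup G) := Subgroup.normalizerMonoidHom (R : Subgroup G) g with hφ
    have hφp : φ ^ p = 1 := by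
      rw [hφ, ← map_pow, ← hg, pow_orderOf_eq_one, map_one]
    obtain ⟨v, hv⟩ := IsPGroup.iff_card.1 R.2
    have hφ1 : φ = 1 := by
      refine aut_eq_one hr hrp hv (hc.mono ?_) hφp
      rw [← hv]
      exact card_subgroup_dvd_card _
    have hcent : (g : G) ∈ centralizer ((R : Subgroup G) : Set G) := by
      have h2 : g ∈ (Subgroup.normalizerMonoidHom (R : Subgroup G)).ker := hφ1
      rw [Subgroup.normalizerMonoidHom_ker] at h2
      exact h2
    -- the Sylow subgroup generated by `g`
    have hog : orderOf (g : G) = p := by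
      rw [Subgroup.orderOf_coe]
      exact hg
    have hcardP : Nat.card (Subgroup.zpowers (g : G)) = p := by
      rw [Nat.card_zpowers, hog]
    have hp2 : ¬ p ^ 2 ∣ Nat.card G := by
      rw [hG, pow_two]
      intro h2
      exact hN (Nat.dvd_of_mul_dvd_mul_left hp.out.pos h2)
    let Q : Sylow p G := Sylow.ofCard (Subgroup.zpowers (g : G)) (by
      rw [hcardP]
      have h2 : (Nat.card G).factorization p = 1 := by
        apply le_antisymm
        · by_contra h3
          rw [not_le] at h3
          exact hp2 ((hp.out.pow_dvd_iff_le_factorization Nat.card_pos.ne').2 h3)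
        · exact (hp.out.dvd_iff_one_le_factorization Nat.card_pos.ne').1
            (hG ▸ Dvd.intro _ rfl)
      rw [h2, pow_one])
    have hRQ : (R : Subgroup G) ≤ normalizer ((Q : Subgroup G) : Set G) := by
      refine le_trans ?_ (Subgroup.centralizer_le_normalizer _)
      intro x hx
      rw [Subgroup.mem_centralizer_iff]
      rintro y ⟨k, rfl⟩
      have h2 : x * (g : G) = g * x := (Subgroup.mem_centralizer_iff.1 hcent) x hx
      exact ((show Commute (g : G) x from h2.symm).zpow_left k).eq
    rw [Sylow.card_eq_index_normalizer Q] at hrd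
    have h2 := Sylow.not_dvd_index R
    exact h2 (hrd.trans (Subgroup.index_dvd_of_le hRQ))
  have h2 : Subsingleton (Sylow p G) := (Nat.card_eq_one_iff_unique.1 h1).1
  exact Sylow.normal_of_subsingleton P

/-- A nonabelian simple group of order divisible by `p` is a quotient of a subgroup of `G`. -/
def HasSec (p : ℕ) (G : Type u) [Group G] : Prop :=
  ∃ (A : Subgroup G) (K : Type u) (_ : Group K) (f : A →* K), Function.Surjective f ∧
    IsSimpleGroup K ∧ (¬ ∀ a b : K, a * b = b * a) ∧ p ∣ Nat.card K

theorem HasSec.of_subgroup {p : ℕ} {G : Type u} [Group G] (M : Subgroup G) (h : HasSec p M) :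
    HasSec p G := by
  obtain ⟨A, K, _, f, hf, h1, h2, h3⟩ := h
  let e : A ≃* A.map M.subtype := A.equivMapOfInjective M.subtype M.subtype_injective
  exact ⟨A.map M.subtype, K, _, f.comp e.symm.toMonoidHom, hf.comp e.symm.surjective, h1, h2, h3⟩

theorem HasSec.of_quotient {p : ℕ} {G : Type u} [Group G] (N : Subgroup G) [N.Normal]
    (h : HasSec p (G ⧸ N)) : HasSec p G := by
  obtain ⟨A, K, _, f, hf, h1, h2, h3⟩ := h
  exact ⟨A.comap (QuotientGroup.mk' N), K, _, f.comp ((QuotientGroup.mk' N).subgroupComap A),
    hf.comp ((QuotientGroup.mk' N).subgroupComap_surjective_of_surjective A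
      (QuotientGroup.mk'_surjective N)), h1, h2, h3⟩

theorem normal_of_normal {p : ℕ} [hp : Fact p.Prime] {G : Type*} [Group G] [Finite G]
    (M : Subgroup G) [M.Normal] (hM : ¬ p ∣ M.index)
    (h : ∀ P : Sylow p M, (P : Subgroup M).Normal) (P : Sylow p G) : (P : Subgroup G).Normal := by
  obtain ⟨P0⟩ : Nonempty (Sylow p M) := inferInstance
  have h0 := h P0
  have h1 : (P0 : Subgroup M).Characteristic := Sylow.characteristic_of_normal P0 h0
  have h2 : ((P0 : Subgroup M).map M.subtype).Normal := inferInstance
  have h3 : Nat.card ((P0 : Subgroup M).map M.subtype) = p ^ (Nat.card G).factorization p := by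
    rw [Nat.card_congr ((P0 : Subgroup M).equivMapOfInjective M.subtype M.subtype_injective).symm.toEquiv,
      Sylow.card_eq_multiplicity, ← M.card_mul_index,
      Nat.factorization_mul Nat.card_pos.ne' M.index_ne_zero_of_finite]
    rw [Finsupp.add_apply, Nat.factorization_eq_zero_of_not_dvd hM, add_zero]
  let Q : Sylow p G := Sylow.ofCard _ h3
  have hQ : (Q : Subgroup G).Normal := h2
  have := Sylow.unique_of_normal Q hQ
  have h4 : P = Q := Subsingleton.elim _ _
  rw [h4]
  exact hQ

theorem main_aux {p : ℕ} [hp : Fact p.Prime] (n : ℕ) : ∀ (G : Type u) [Group G] [Finite G],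
    Nat.card G = n → ¬ p ^ 2 ∣ n → Cond p n →
      (∀ P : Sylow p G, (P : Subgroup G).Normal) ∨ HasSec p G := by
  induction n using Nat.strong_induction_on with
  | _ n ih =>
  intro G _ _ hn hp2 hc
  subst hn
  by_cases hpG : p ∣ Nat.card G
  swap
  · left
    intro P
    have h1 : Nat.card (P : Subgroup G) = 1 := by
      rw [Sylow.card_eq_multiplicity, Nat.factorization_eq_zero_of_not_dvd hpG, pow_zero]
    rw [Subgroup.card_eq_one] at h1
    rw [h1]
    infer_instance
  by_cases hcomm : ∀ a b : G, a * b = b * a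
  · left
    intro P
    refine ⟨fun x hx g => ?_⟩
    rw [hcomm g x, mul_inv_cancel_right]
    exact hx
  by_cases hs : IsSimpleGroup G
  · right
    exact ⟨⊤, G, _, (⊤ : Subgroup G).subtype, fun g => ⟨⟨g, trivial⟩, rfl⟩, hs, hcomm, hpG⟩
  have hnt : Nontrivial G := by
    by_contra h
    rw [not_nontrivial_iff_subsingleton] at h
    exact hcomm fun a b => Subsingleton.elim _ _
  obtain ⟨N, hN, hN1, hN2⟩ : ∃ N : Subgroup G, N.Normal ∧ N ≠ ⊥ ∧ N ≠ ⊤ := by
    by_contra h
    push Not at h
    apply hs
    exact { eq_bot_or_eq_top_of_normal := fun H hH => by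
              by_cases hb : H = ⊥
              · exact Or.inl hb
              · exact Or.inr (h H hH hb) }
  have hlt : ∀ M : Subgroup G, M ≠ ⊤ → Nat.card M < Nat.card G := by
    intro M hM
    refine lt_of_le_of_ne (Subgroup.card_le_card_group M) fun h => hM (Subgroup.eq_top_of_card_eq M h)
  have step : ∀ M : Subgroup G, M.Normal → M ≠ ⊤ → ¬ p ∣ M.index →
      (∀ P : Sylow p G, (P : Subgroup G).Normal) ∨ HasSec p G := by
    intro M hM hM2 hMi
    have hd := card_subgroup_dvd_card M
    rcases ih (Nat.card M) (hlt M hM2) M rfl (fun h => hp2 (h.trans hd)) (hc.mono hd) with h | h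
    · exact Or.inl (normal_of_normal M hMi h)
    · exact Or.inr (h.of_subgroup M)
  by_cases hpN : p ∣ Nat.card N
  · refine step N hN hN2 fun h => hp2 ?_
    rw [← N.card_mul_index, pow_two]
    exact Nat.mul_dvd_mul hpN h
  · have hlt2 : Nat.card (G ⧸ N) < Nat.card G := by
      rw [← N.index_eq_card, ← N.card_mul_index]
      have h1 : 1 < Nat.card N := (Subgroup.one_lt_card_iff_ne_bot N).2 hN1
      have h2 : 0 < N.index := Nat.pos_of_ne_zero N.index_ne_zero_of_finite
      nlinarith
    have hd := Subgroup.card_quotient_dvd_card N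
    rcases ih _ hlt2 (G ⧸ N) rfl (fun h => hp2 (h.trans hd)) (hc.mono hd) with h | h
    · obtain ⟨Q⟩ : Nonempty (Sylow p (G ⧸ N)) := inferInstance
      have hQ := h Q
      have hMn : ((Q : Subgroup (G ⧸ N)).comap (QuotientGroup.mk' N)).Normal := inferInstance
      have hMi : ¬ p ∣ ((Q : Subgroup (G ⧸ N)).comap (QuotientGroup.mk' N)).index := by
        rw [Subgroup.index_comap_of_surjective _ (QuotientGroup.mk'_surjective N)]
        exact Sylow.not_dvd_index Q
      by_cases htop : (Q : Subgroup (G ⧸ N)).comap (QuotientGroup.mk' N) = ⊤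
      · left
        have hQt : (Q : Subgroup (G ⧸ N)) = ⊤ := by
          rw [eq_top_iff]
          intro x _
          obtain ⟨g, rfl⟩ := QuotientGroup.mk'_surjective N x
          have : g ∈ (Q : Subgroup (G ⧸ N)).comap (QuotientGroup.mk' N) := by rw [htop]; trivial
          exact this
        have h1 : Nat.card (G ⧸ N) = p ^ (Nat.card (G ⧸ N)).factorization p := by
          have h2 := Sylow.card_eq_multiplicity Q
          rw [hQt, Subgroup.card_top] at h2
          exact h2
        have h2 : Nat.card (G ⧸ N) = p := by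
          have h3 : p ∣ Nat.card (G ⧸ N) := by
            have h4 := Subgroup.card_eq_card_quotient_mul_card_subgroup N
            rw [h4] at hpG
            exact (hp.out.dvd_mul.1 hpG).resolve_right hpN
          have h4 : (Nat.card (G ⧸ N)).factorization p = 1 := by
            apply le_antisymm
            · by_contra h5
              rw [not_le] at h5
              apply hp2
              refine dvd_trans ?_ hd
              exact (hp.out.pow_dvd_iff_le_factorization Nat.card_pos.ne').2 h5
            · exact (hp.out.dvd_iff_one_le_factorization Nat.card_pos.ne').1 h3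
          rw [h4, pow_one] at h1
          exact h1
        have h3 : Nat.card G = p * Nat.card N := by
          rw [Subgroup.card_eq_card_quotient_mul_card_subgroup N, h2]
        exact fun P => exists_normal_of_coprime N hpN h3 hc P
      · exact step _ hMn htop hMi
    · exact Or.inr (h.of_quotient N)

theorem main {p : ℕ} [hp : Fact p.Prime] (G : Type u) [Group G] [Finite G]
    (hp2 : ¬ p ^ 2 ∣ Nat.card G) (hc : Cond p (Nat.card G)) :
      (∀ P : Sylow p G, (P : Subgroup G).Normal) ∨ HasSec p G :=
  main_aux (Nat.card G) G rfl hp2 hc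

end Cfsg.Agent.H961.PrimeSection
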