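import Mathlib
import Cfsg.Prelude.Def_Local
import Cfsg.Agent.H566.Reduce

/-!
# Composition factors of extensions and of products of simple groups (helper961)

* `Inv Q` : `Q` is invariant under isomorphism;
* `compK_ext` : extension; `compK_of_sSup` : groups generated by normal nonabelian simple subgroups.
-/

set_option autoImplicit false

namespace Cfsg.Agent.H961.CompFac

open Subgroup Cfsg
open Cfsg.Agent.H566 (NSim)

universe u

/-- invariance under isomorphism -/
def Inv (Q : ∀ (X : Type u) [Group X], Prop) : Prop :=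
  ∀ (X Y : Type u) [Group X] [Group Y], X ≃* Y → Q X → Q Y

variable {Q : ∀ (X : Type u) [Group X], Prop}

/-- images of subnormal subgroups -/
theorem compK_iff (hQ : Inv Q) {G : Type u} [Group G] :
    IsCompositionKGroupWith Q G ↔ ∀ (H : Subgroup G), H.IsSubnormal → ∀ (S : Type u) [Group S] [IsSimpleGroup S],
      (¬ ∀ a b : S, a * b = b * a) → ∀ f : H →* S, Function.Surjective f → Q S := by
  constructor
  · intro h H hH S _ _ hna f hf
    let e : H ⧸ f.ker ≃* S := QuotientGroup.quotientKerEquivOfSurjective f hf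
    refine hQ _ _ e (h H hH f.ker e.isSimpleGroup ?_)
    intro hc
    apply hna
    intro a b
    apply e.symm.injective
    rw [map_mul, map_mul]
    exact hc.is_comm.comm _ _
  · intro h H hH N hN hs hna
    refine h H hH (H ⧸ N) ?_ (QuotientGroup.mk' N) (QuotientGroup.mk'_surjective N)
    intro hc
    exact hna ⟨⟨hc⟩⟩

/-- **Extensions.** -/
theorem compK_ext (hQ : Inv Q) {G : Type u} [Group G] (N : Subgroup G) [N.Normal]
    (h1 : IsCompositionKGroupWith Q N) (h2 : IsCompositionKGroupWith Q (G ⧸ N)) : IsCompositionKGroupWith Q G := by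
  rw [compK_iff hQ] at h1 h2 ⊢
  intro H hH S _ _ hna f hf
  have hn : ((N.subgroupOf H).map f).Normal := Subgroup.Normal.map inferInstance f hf
  rcases hn.eq_bot_or_eq_top with h | h
  · -- `f` factors through the image of `H` in `G ⧸ N`
    let q : H →* (H.map (QuotientGroup.mk' N)) := (QuotientGroup.mk' N).subgroupMap H
    have hq : Function.Surjective q := (QuotientGroup.mk' N).subgroupMap_surjective H
    have hk : q.ker ≤ f.ker := by
      intro x hx
      have hx1 : QuotientGroup.mk' N (x : G) = 1 := congrArg Subtype.val (MonoidHom.mem_ker.1 hx)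
      have hx2 : (x : G) ∈ N := (QuotientGroup.eq_one_iff _).1 hx1
      have hx3 : f x ∈ (N.subgroupOf H).map f := ⟨x, hx2, rfl⟩
      rw [h] at hx3
      exact hx3
    let g : (H.map (QuotientGroup.mk' N)) →* S :=
      q.liftOfRightInverse (Function.surjInv hq) (Function.rightInverse_surjInv hq) ⟨f, hk⟩
    have hg : ∀ x, g (q x) = f x := fun x =>
      MonoidHom.liftOfRightInverse_comp_apply q (Function.surjInv hq) (Function.rightInverse_surjInv hq) ⟨f, hk⟩ x
    refine h2 _ (hH.map (QuotientGroup.mk'_surjective N)) S hna g ?_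
    intro s
    obtain ⟨x, rfl⟩ := hf s
    exact ⟨q x, hg x⟩
  · refine h1 (H.subgroupOf N) hH.subgroupOf S hna
      (f.comp { toFun := fun x => ⟨(x : N), x.2⟩, map_one' := rfl, map_mul' := fun _ _ => rfl }) ?_
    intro s
    have hs : s ∈ (N.subgroupOf H).map f := by rw [h]; trivial
    obtain ⟨x, hx, rfl⟩ := hs
    exact ⟨⟨⟨(x : G), hx⟩, x.2⟩, rfl⟩

/-- simple groups -/
theorem compK_of_simple (hQ : Inv Q) {G : Type u} [Group G] [IsSimpleGroup G] (h : Q G) :
    IsCompositionKGroupWith Q G := by
  rw [compK_iff hQ]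
  intro H hH S _ _ hna f hf
  rcases hH.eq_bot_or_top_of_isSimpleGroup inferInstance with rfl | rfl
  · exfalso
    apply hna
    intro a b
    obtain ⟨x, rfl⟩ := hf a
    obtain ⟨y, rfl⟩ := hf b
    rw [Subsingleton.elim x y]
  · let g : G →* S := f.comp (Subgroup.topEquiv (G := G)).symm.toMonoidHom
    have hg : Function.Surjective g := hf.comp (Subgroup.topEquiv (G := G)).symm.surjective
    have hgi : Function.Injective g := by
      rw [← MonoidHom.ker_eq_bot_iff]
      rcases (inferInstance : g.ker.Normal).eq_bot_or_eq_top with h1 | h1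
      · exact h1
      · exfalso
        apply hna
        intro a b
        obtain ⟨x, rfl⟩ := hg a
        obtain ⟨y, rfl⟩ := hg b
        have hx : x ∈ g.ker := by rw [h1]; trivial
        have hy : y ∈ g.ker := by rw [h1]; trivial
        rw [MonoidHom.mem_ker.1 hx, MonoidHom.mem_ker.1 hy]
    exact hQ _ _ (MulEquiv.ofBijective g ⟨hgi, hg⟩) h

/-- **Groups generated by normal nonabelian simple subgroups.** -/
theorem compK_of_sSup (hQ : Inv Q) {G : Type u} [Group G] [Finite G]
    (h : sSup {T : Subgroup G | T ∈ NSim G ∧ Q T} = ⊤) : IsCompositionKGroupWith Q G := by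
  induction hn : Nat.card G using Nat.strong_induction_on generalizing G with
  | _ n ih =>
  subst hn
  by_cases hne : ∃ T : Subgroup G, T ∈ NSim G ∧ Q T
  · obtain ⟨T, hT, hQT⟩ := hne
    have hTn : T.Normal := hT.1
    have hTs : IsSimpleGroup T := hT.2.1
    refine compK_ext hQ T (compK_of_simple hQ hQT) (ih _ ?_ ?_ rfl)
    · have h1 := T.card_mul_index
      rw [Subgroup.index_eq_card] at h1
      have h2 : 1 < Nat.card T := by
        have : Nontrivial T := hTs.toNontrivial
        exact Finite.one_lt_card
      have h3 : 0 < Nat.card (G ⧸ T) := Nat.card_pos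
      nlinarith
    · rw [eq_top_iff]
      have h0 : (⊤ : Subgroup (G ⧸ T)) = (⊤ : Subgroup G).map (QuotientGroup.mk' T) := by
        rw [← MonoidHom.range_eq_map, MonoidHom.range_eq_top.2 (QuotientGroup.mk'_surjective T)]
      rw [h0, ← h, (Subgroup.gc_map_comap (QuotientGroup.mk' T)).l_sSup]
      refine iSup₂_le ?_
      rintro T' ⟨hT', hQT'⟩
      by_cases hTT : T' = T
      · subst hTT
        rw [show T'.map (QuotientGroup.mk' T') = ⊥ from by
          rw [Subgroup.map_eq_bot_iff, QuotientGroup.ker_mk']]
        exact bot_le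
      · refine le_sSup ?_
        have hT'n : T'.Normal := hT'.1
        have hdis : T ⊓ T' = ⊥ := by
          have hni : (T' ⊓ T).Normal := inferInstance
          rcases NSim.eq_or hT' hni inf_le_left with h3 | h3
          · rw [inf_comm]; exact h3
          · rcases NSim.eq_or hT hT'n (inf_eq_left.1 h3) with h4 | h4
            · rw [h4, inf_bot_eq]
            · exact absurd h4 hTT
        let q : T' →* (T'.map (QuotientGroup.mk' T)) := (QuotientGroup.mk' T).subgroupMap T'
        have hqi : Function.Injective q := by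
          rw [injective_iff_map_eq_one]
          intro x hx
          have hx1 : QuotientGroup.mk' T (x : G) = 1 := congrArg Subtype.val hx
          have hx2 : (x : G) ∈ T := (QuotientGroup.eq_one_iff _).1 hx1
          have hx3 : (x : G) ∈ T ⊓ T' := ⟨hx2, x.2⟩
          rw [hdis] at hx3
          exact Subtype.ext (Subgroup.mem_bot.1 hx3)
        let e : T' ≃* (T'.map (QuotientGroup.mk' T)) :=
          MulEquiv.ofBijective q ⟨hqi, (QuotientGroup.mk' T).subgroupMap_surjective T'⟩
        have hT's : IsSimpleGroup T' := hT'.2.1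
        refine ⟨⟨hT'n.map _ (QuotientGroup.mk'_surjective T), e.symm.isSimpleGroup, ?_⟩, hQ _ _ e hQT'⟩
        intro hc
        apply hT'.2.2
        intro a ha b hb
        have h5 : e ⟨a, ha⟩ * e ⟨b, hb⟩ = e ⟨b, hb⟩ * e ⟨a, ha⟩ := Subtype.ext (hc _ (e ⟨a, ha⟩).2 _ (e ⟨b, hb⟩).2)
        rw [← map_mul, ← map_mul] at h5
        exact congrArg Subtype.val (e.injective h5)
  · have h1 : {T : Subgroup G | T ∈ NSim G ∧ Q T} = ∅ := by
      rw [Set.eq_empty_iff_forall_notMem]
      exact fun T hT => hne ⟨T, hT⟩
    rw [h1, sSup_empty] at h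
    rw [compK_iff hQ]
    intro H hH S _ _ hna f hf
    exfalso
    apply hna
    intro a b
    obtain ⟨x, rfl⟩ := hf a
    obtain ⟨y, rfl⟩ := hf b
    have hsub : ∀ z : G, z = 1 := fun z => by
      have : z ∈ (⊥ : Subgroup G) := by rw [h]; trivial
      exact Subgroup.mem_bot.1 this
    have hx : x = 1 := Subtype.ext (hsub _)
    have hy : y = 1 := Subtype.ext (hsub _)
    rw [hx, hy]

end Cfsg.Agent.H961.CompFac
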