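import Cfsg.Agent.H961.Rad2M
import Cfsg.Agent.H153.SixCox
import Cfsg.Agent.BabyComp.Par
import Cfsg.Agent.CpAut.TwoInnerB

/-!
# Radical elements of order two: the Baby Monster (helper961, task 1553 of helper483)

`rad_sec` : if `t` has a section `X₀/⟨t⟩ ≅ E`, `E` simple, `X₀ ⊴ C(t)`, with `C_{C(t)}(X₀/⟨t⟩) = ⟨t⟩`, then the
solvable radical of `C(t)` is contained in `⟨t⟩`; every involution of `B` commutes with a transposition different from it.
-/

set_option autoImplicit false
set_option maxRecDepth 100000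

namespace Cfsg.Agent.H961.Rad2B

open Cfsg Subgroup Cfsg.Agent.H459.Rad Cfsg.Agent.H459.Iface Cfsg.Agent.H839.Rad
open Cfsg.Agent.SignalizersComponents.ComponentExists
open Cfsg.Agent.BabyComp Cfsg.Agent.H961.Rad2M
open Cfsg.Spor.BabyMonster (Gen)
open Cfsg.Agent.Omega.Quasithin.Row.E27 Cfsg.Agent.Omega.Quasithin.Row.Cox

/-- **The radical of the centralizer `C(t)`**, `t` with a section `X₀/⟨t⟩ ≅ E` simple. -/
theorem rad_sec {X E : Type*} [Group X] [Finite X] [Group E] [Finite E] [IsSimpleGroup E]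
    (hE : ¬ Group.IsSolvable E) {t : X} {X₀ : Subgroup X} {σ : ↥X₀ →* E} (D : Sec.Data t σ)
    (u : ↥(centralizer ({t} : Set X))) (hu : u ∈ solvableRadical ↥(centralizer ({t} : Set X))) :
    (u : X) = 1 ∨ (u : X) = t := by
  have hut : (u : X) * t = t * u := mem_centralizer_singleton_iff.1 u.2
  refine D.cen u hut ?_
  have hXt : X₀ ≤ centralizer ({t} : Set X) := fun m hm => mem_centralizer_singleton_iff.2 (D.comm m hm)
  have hu' : (u : X) ∈ radIn (centralizer ({t} : Set X)) := mem_radIn_coe.2 hu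
  intro m hm
  have h2 : (u : X) * m * (u : X)⁻¹ ∈ X₀ := D.nrm u hut m hm
  have h3 : (u : X) * m * (u : X)⁻¹ * m⁻¹ ∈ radIn (centralizer ({t} : Set X)) := by
    have h4 : m * (u : X)⁻¹ * m⁻¹ ∈ radIn (centralizer ({t} : Set X)) :=
      radIn_conj_mem (hXt hm) ((radIn (centralizer ({t} : Set X))).inv_mem hu')
    have h5 : (u : X) * m * (u : X)⁻¹ * m⁻¹ = (u : X) * (m * (u : X)⁻¹ * m⁻¹) := by group
    rw [h5]
    exact mul_mem hu' h4
  have h4 : (u : X) * m * (u : X)⁻¹ * m⁻¹ ∈ radIn X₀ := radIn_inf_le hXt ⟨h3, X₀.mul_mem h2 (X₀.inv_mem hm)⟩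
  obtain ⟨w, hw⟩ : ∃ w : ↥X₀, (w : X) = (u : X) * m * (u : X)⁻¹ * m⁻¹ := ⟨⟨_, mul_mem h2 (inv_mem hm)⟩, rfl⟩
  rw [← hw] at h4
  have h5 : σ w ∈ solvableRadical E := map_rad_le D.surj (mem_radIn_coe.1 h4)
  rw [rad_eq_bot_of_simple hE, mem_bot] at h5
  rcases (D.ker _).1 h5 with h5 | h5
  · left
    rw [hw] at h5
    exact mul_inv_eq_one.1 h5
  · right
    rw [hw, mul_inv_eq_iff_eq_mul] at h5
    rw [h5, D.comm m hm]

/-- a simple group of order divisible by 6 -/
theorem not_solvable_of_card {Q : Type*} [Group Q] [Finite Q] [IsSimpleGroup Q] (h2 : 2 ∣ Nat.card Q)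
    (h3 : 3 ∣ Nat.card Q) : ¬ Group.IsSolvable Q := by
  intro hs
  have hc : ∀ a b : Q, a * b = b * a := IsSimpleGroup.comm_iff_isSolvable.2 hs
  let inst : CommGroup Q := { (inferInstance : Group Q) with mul_comm := hc }
  have hp : (Nat.card Q).Prime := IsSimpleGroup.prime_card
  have e2 := (Nat.prime_dvd_prime_iff_eq Nat.prime_two hp).1 h2
  have e3 := (Nat.prime_dvd_prime_iff_eq Nat.prime_three hp).1 h3
  omega

/-! ### The transpositions -/

theorem card_B : Nat.card Spor.BabyMonster = 4154781481226426191177580544000000 :=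
  (S1704.result : Cfsg.IsB Cfsg.Spor.BabyMonster).2

theorem not_comm_B : ¬ ∀ a b : Spor.BabyMonster, a * b = b * a := by
  intro h
  apply not_solvable_B
  exact Group.isSolvable_of_comm h

/-- adjacent nodes are conjugate -/
theorem conj_adj {x y : Gen} (h : Spor.coxLabel Spor.BabyMonster.edges x y = 3) :
    IsConj (PresentedGroup.of x : Spor.BabyMonster) (PresentedGroup.of y) := by
  have hx := cox_sq (extra := Spor.BabyMonster.extra) (nodes_BabyMonster x)
  have hy := cox_sq (extra := Spor.BabyMonster.extra) (nodes_BabyMonster y)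
  have h3 := cox_three (extra := Spor.BabyMonster.extra) (nodes_BabyMonster x) (nodes_BabyMonster y) h
  have ix : (PresentedGroup.of x : Spor.BabyMonster)⁻¹ = PresentedGroup.of x := inv_eq_of_mul_eq_one_left hx
  have iy : (PresentedGroup.of y : Spor.BabyMonster)⁻¹ = PresentedGroup.of y := inv_eq_of_mul_eq_one_left hy
  refine isConj_iff.2 ⟨PresentedGroup.of x * PresentedGroup.of y, ?_⟩
  rw [mul_inv_rev, ix, iy]
  have h4 : (PresentedGroup.of x * PresentedGroup.of y * PresentedGroup.of x *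
      (PresentedGroup.of y * PresentedGroup.of x) : Spor.BabyMonster) * PresentedGroup.of y = 1 := by
    rw [← h3, pow_succ, pow_two]
    simp only [mul_assoc]
  rw [eq_inv_of_mul_eq_one_left h4, iy]

/-- all nodes are conjugate -/
theorem conj_t1 : IsConj (PresentedGroup.of Gen.t1 : Spor.BabyMonster) (PresentedGroup.of Gen.t6) ∧
    IsConj (PresentedGroup.of Gen.t1 : Spor.BabyMonster) (PresentedGroup.of Gen.t8) := by
  have h1 := conj_adj (x := .t1) (y := .t2) (by decide)
  have h2 := conj_adj (x := .t2) (y := .t3) (by decide)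
  have h3 := conj_adj (x := .t3) (y := .t4) (by decide)
  have h4 := conj_adj (x := .t4) (y := .t5) (by decide)
  have h5 := conj_adj (x := .t5) (y := .t6) (by decide)
  have h6 := conj_adj (x := .t6) (y := .t7) (by decide)
  have h7 := conj_adj (x := .t7) (y := .t8) (by decide)
  have h8 := (((h1.trans h2).trans h3).trans h4).trans h5
  exact ⟨h8, (h8.trans h6).trans h7⟩

/-- **every transposition commutes with another one** -/
theorem exists_comm {t x : Spor.BabyMonster} (ht : IsConj t (PresentedGroup.of Gen.t1 : Spor.BabyMonster))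
    (hx : IsConj t x) : ∃ d, IsConj t d ∧ x * d = d * x ∧ x ≠ d := by
  obtain ⟨c6, c8⟩ := conj_t1
  have hp := H153.SixCox.BabyMonster_pair not_comm_B
  have s6 := cox_sq (extra := Spor.BabyMonster.extra) (nodes_BabyMonster .t6)
  have s8 := cox_sq (extra := Spor.BabyMonster.extra) (nodes_BabyMonster .t8)
  have hc := cox_comm (extra := Spor.BabyMonster.extra) (nodes_BabyMonster .t6) (nodes_BabyMonster .t8) (by decide)
  have hne : (PresentedGroup.of Gen.t6 : Spor.BabyMonster) ≠ PresentedGroup.of Gen.t8 := by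
    intro h
    apply hp.ne_x
    rw [h]
    exact s8
  obtain ⟨g, hg⟩ := isConj_iff.1 ((ht.trans c6).symm.trans hx)
  refine ⟨g * PresentedGroup.of Gen.t8 * g⁻¹, (ht.trans c8).trans (isConj_iff.2 ⟨g, rfl⟩), ?_, ?_⟩
  · rw [← hg]
    calc g * PresentedGroup.of Gen.t6 * g⁻¹ * (g * PresentedGroup.of Gen.t8 * g⁻¹) =
        g * (PresentedGroup.of Gen.t6 * PresentedGroup.of Gen.t8) * g⁻¹ := by group
      _ = g * (PresentedGroup.of Gen.t8 * PresentedGroup.of Gen.t6) * g⁻¹ := by rw [hc]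
      _ = _ := by group
  · intro h
    rw [← hg] at h
    exact hne (mul_left_cancel (mul_right_cancel h))

theorem center_B : center Spor.BabyMonster = ⊥ := by
  have h0 : IsB Spor.BabyMonster := S1704.result
  have := CTwoTab.BInst.finite_B
  exact CpAut.TwoInner.center_eq_bot_of_card h0.1 (by rw [h0.2]; norm_num)

theorem noRCI_B : Cfsg.Agent.H483.Rad23.NoRCI 2 Spor.BabyMonster := by
  have hfin : Finite Spor.BabyMonster := CTwoTab.BInst.finite_B
  obtain ⟨K, _, _, hK, t, X₀, σ, D, ht, -⟩ := CTwoTab.BInst.exists_sec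
  have hE := Cfsg.Agent.BM.HBFinal.card_E K hK
  have hsE : IsSimpleGroup ↥(Lie.twistedE6 K 2) := MonsterN.EInst.isSimple K hK
  have hfE : Finite ↥(Lie.twistedE6 K 2) := Nat.finite_of_card_ne_zero (by rw [hE]; norm_num)
  have hns : ¬ Group.IsSolvable ↥(Lie.twistedE6 K 2) :=
    not_solvable_of_card (by rw [hE]; norm_num) (by rw [hE]; norm_num)
  obtain ⟨M₁, Bs⟩ := BaseB.exists_base ht
  have hR : ∀ u : ↥(centralizer ({t} : Set Spor.BabyMonster)),
      u ∈ solvableRadical ↥(centralizer ({t} : Set Spor.BabyMonster)) → (u : Spor.BabyMonster) = 1 ∨ (u : Spor.BabyMonster) = t :=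
    fun u hu => rad_sec hns D u hu
  have hcls : ∀ d, IsConj t d → d ≠ 1 ∧ ∀ u : ↥(centralizer ({d} : Set Spor.BabyMonster)),
      u ∈ solvableRadical ↥(centralizer ({d} : Set Spor.BabyMonster)) → (u : Spor.BabyMonster) = 1 ∨ (u : Spor.BabyMonster) = d := by
    intro d hd
    obtain ⟨g, rfl⟩ := isConj_iff.1 hd
    refine ⟨?_, rad_conj hR g⟩
    intro h
    apply D.t_ne
    calc t = g⁻¹ * (g * t * g⁻¹) * g := by group
      _ = 1 := by rw [h]; group
  refine noRCI_of_family center_B ?_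
  intro x hx
  suffices h : ∃ d, IsConj t d ∧ x * d = d * x ∧ x ≠ d by
    obtain ⟨d, h1, h2, h3⟩ := h
    exact ⟨d, (hcls d h1).1, h2, h3, (hcls d h1).2⟩
  by_cases hxt : IsConj t x
  · exact exists_comm ht hxt
  have hxx : x * x = 1 := by rw [← pow_two, ← hx, pow_orderOf_eq_one]
  have hx1 : x ≠ 1 := by
    rintro rfl
    rw [orderOf_one] at hx
    norm_num at hx
  rcases Bs.classes x hxx hx1 with ⟨h, hh⟩ | ⟨d, hd, hc, -⟩
  · have h1 := Bs.M_comm _ hh
    refine ⟨h * t * h⁻¹, isConj_iff.2 ⟨h, rfl⟩, ?_, ?_⟩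
    · calc x * (h * t * h⁻¹) = h * (h⁻¹ * x * h * t) * h⁻¹ := by group
        _ = h * (t * (h⁻¹ * x * h)) * h⁻¹ := by rw [h1]
        _ = _ := by group
    · rintro h2
      exact hxt (isConj_iff.2 ⟨h, h2.symm⟩)
  · refine ⟨d, hd, hc, ?_⟩
    rintro rfl
    exact hxt hd

/-- **The Baby Monster, order two.** -/
theorem noRC_B {K : Type*} [Group K] [Finite K] (h : Cfsg.Spor.IsoB K) : Cfsg.Agent.H483.Rad23.NoRC 2 K := by
  obtain ⟨e⟩ := h
  have hfin : Finite Spor.BabyMonster := CTwoTab.BInst.finite_B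
  exact Cfsg.Agent.H483.Rad23.NoRC.congr e
    (Cfsg.Agent.H483.Rad23.noRC_of_inner center_B (fun x _ => CpAut.TwoInner.inner_b x) noRCI_B)

/-- **The Baby Monster, order two.** -/
theorem row2_b {K : Type*} [Group K] [Finite K] [IsSimpleGroup K] (h : Cfsg.Spor.IsoB K) :
    Cfsg.Agent.H483.Rad23.Row23 2 K := (noRC_B h).row

end Cfsg.Agent.H961.Rad2B
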