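import Cfsg.Agent.H848.CubeM
import Cfsg.Agent.H377.SporB
import Cfsg.Agent.H483.Rad23.Base

/-!
# Radical elements of order two: the Monster (helper961, task 1554 of helper483)
-/

set_option autoImplicit false
set_option maxRecDepth 100000

namespace Cfsg.Agent.H961.Rad2M

open Cfsg Subgroup Cfsg.Agent.H459.Rad Cfsg.Agent.H459.Iface Cfsg.Agent.H839.Rad
open Cfsg.Agent.SignalizersComponents.ComponentExists
open Cfsg.Agent.MonsterX Cfsg.Agent.MonsterX.InstData Cfsg.Agent.MonsterX.MainPack Cfsg.Agent.MonsterU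
open Cfsg.Agent.MonsterP Cfsg.Agent.MonsterN
open Cfsg.Agent.MonsterX.MainBasic Cfsg.Agent.MonsterX.MainSimple Cfsg.Agent.MonsterX.Model

/-- the radical of an extension of a nonabelian simple group -/
theorem rad_le_ker {H L : Type*} [Group H] [Finite H] [Group L] [Finite L] [IsSimpleGroup L]
    (hL : ¬ Group.IsSolvable L) (f : H →* L) (hf : Function.Surjective f) : solvableRadical H ≤ f.ker := by
  intro x hx
  have h1 : f x ∈ solvableRadical L := map_rad_le hf hx
  rw [rad_eq_bot_of_simple hL, mem_bot] at h1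
  exact h1

/-- **A covering family of involutions**: no radical involution -/
theorem noRCI_of_family {K : Type*} [Group K] [Finite K] (hc : center K = ⊥)
    (h : ∀ x : K, orderOf x = 2 → ∃ d : K, d ≠ 1 ∧ x * d = d * x ∧ x ≠ d ∧
      ∀ u : ↥(centralizer ({d} : Set K)), u ∈ solvableRadical ↥(centralizer ({d} : Set K)) → (u : K) = 1 ∨ (u : K) = d) :
    Cfsg.Agent.H483.Rad23.NoRCI 2 K := by
  intro x hx hR
  obtain ⟨d, hd1, hxd, hne, hu⟩ := h x hx
  have hM : centralizer ({d} : Set K) ≠ ⊤ := by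
    intro h1
    apply hd1
    rw [← mem_bot, ← hc, mem_center_iff]
    intro g
    exact mem_centralizer_singleton_iff.1 (h1 ▸ mem_top g)
  rcases hu _ (mem_rad hR hM (mem_centralizer_singleton_iff.2 hxd)) with h1 | h1
  · have h2 : x = 1 := h1
    rw [h2, orderOf_one] at hx
    norm_num at hx
  · exact hne h1

/-- the property of the centralizers is invariant under conjugation -/
theorem rad_conj {K : Type*} [Group K] [Finite K] {d : K}
    (h : ∀ u : ↥(centralizer ({d} : Set K)), u ∈ solvableRadical ↥(centralizer ({d} : Set K)) → (u : K) = 1 ∨ (u : K) = d)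
    (g : K) (u : ↥(centralizer ({g * d * g⁻¹} : Set K)))
    (hu : u ∈ solvableRadical ↥(centralizer ({g * d * g⁻¹} : Set K))) : (u : K) = 1 ∨ (u : K) = g * d * g⁻¹ := by
  have hmem : ∀ k : ↥(centralizer ({g * d * g⁻¹} : Set K)), g⁻¹ * (k : K) * g ∈ centralizer ({d} : Set K) := by
    intro k
    have h1 := mem_centralizer_singleton_iff.1 k.2
    rw [mem_centralizer_singleton_iff]
    calc g⁻¹ * (k : K) * g * d = g⁻¹ * ((k : K) * (g * d * g⁻¹)) * g := by group
      _ = g⁻¹ * ((g * d * g⁻¹) * (k : K)) * g := by rw [h1]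
      _ = _ := by group
  let f : ↥(centralizer ({g * d * g⁻¹} : Set K)) →* ↥(centralizer ({d} : Set K)) :=
    { toFun := fun k => ⟨g⁻¹ * (k : K) * g, hmem k⟩
      map_one' := Subtype.ext (by show g⁻¹ * 1 * g = 1; group)
      map_mul' := fun a b => Subtype.ext (by
        show g⁻¹ * ((a : K) * (b : K)) * g = (g⁻¹ * (a : K) * g) * (g⁻¹ * (b : K) * g)
        group) }
  have hf : Function.Surjective f := by
    intro k
    have h1 := mem_centralizer_singleton_iff.1 k.2
    refine ⟨⟨g * (k : K) * g⁻¹, ?_⟩, Subtype.ext (by show g⁻¹ * (g * (k : K) * g⁻¹) * g = (k : K); group)⟩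
    rw [mem_centralizer_singleton_iff]
    calc g * (k : K) * g⁻¹ * (g * d * g⁻¹) = g * ((k : K) * d) * g⁻¹ := by group
      _ = g * (d * (k : K)) * g⁻¹ := by rw [h1]
      _ = _ := by group
  rcases h (f u) (map_rad_le hf hu) with h1 | h1
  · left
    have h2 : g⁻¹ * (u : K) * g = 1 := h1
    calc (u : K) = g * (g⁻¹ * (u : K) * g) * g⁻¹ := by group
      _ = 1 := by rw [h2]; group
  · right
    have h2 : g⁻¹ * (u : K) * g = d := h1
    calc (u : K) = g * (g⁻¹ * (u : K) * g) * g⁻¹ := by group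
      _ = _ := by rw [h2]

theorem not_solvable_B : ¬ Group.IsSolvable Spor.BabyMonster := by
  have h0 : IsB Spor.BabyMonster := S1704.result
  have := h0.1
  have := CTwoTab.BInst.finite_B
  intro hs
  have hc : center Spor.BabyMonster = ⊥ := CpAut.TwoInner.center_eq_bot_of_card h0.1 (by rw [h0.2]; norm_num)
  have h1 := IsSimpleGroup.comm_iff_isSolvable.2 hs
  have h2 : center Spor.BabyMonster = ⊤ := by
    rw [eq_top_iff]
    intro a _
    rw [mem_center_iff]
    exact fun b => h1 b a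
  have h3 : Nat.card Spor.BabyMonster = 1 := by
    rw [← Subgroup.card_top, ← h2, hc, Subgroup.card_bot]
  rw [h0.2] at h3
  norm_num at h3

/-- `C(t) = 2.B` -/
theorem rad_t {u : ↥(centralizer ({KDone.K.ι KLinkInst.x₀} : Set ↥InstData.M.G))}
    (hu : u ∈ solvableRadical ↥(centralizer ({KDone.K.ι KLinkInst.x₀} : Set ↥InstData.M.G))) :
    (u : ↥InstData.M.G) = 1 ∨ (u : ↥InstData.M.G) = KDone.K.ι KLinkInst.x₀ := by
  have hfin : Finite ↥InstData.M.G := MThirteen.Row.finite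
  have h0 : IsB Spor.BabyMonster := S1704.result
  have := h0.1
  have := CTwoTab.BInst.finite_B
  obtain ⟨⟨h1, -, ⟨e⟩⟩, -⟩ := ModelB.fieldsKS LitFin.all KDone.lnk KDone.lft (NodesGrp.prel LitFin.H)
    (NodesNe.ne LitFin.H) LitFin.conj_ten Cfsg.Agent.S1704.result KDone.lnk.x₀_mem
  have ht : orderOf (KDone.K.ι KLinkInst.x₀) = 2 := by
    obtain ⟨g, hg⟩ := ModelB.exists_conj_t LitFin.all.hG LitFin.all.hR KDone.lnk KDone.lft KDone.lnk.x₀_mem
    exact H377.SporB.orderOf_t (isConj_iff.2 ⟨g, hg⟩)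
  have h2 := rad_le_ker not_solvable_B (e.toMonoidHom.comp (QuotientGroup.mk' _))
    (e.surjective.comp (QuotientGroup.mk'_surjective _)) hu
  have h3 : u ∈ center ↥(centralizer ({KDone.K.ι KLinkInst.x₀} : Set ↥InstData.M.G)) := by
    have h5 : e (QuotientGroup.mk' _ u) = e 1 := by
      rw [map_one]
      exact h2
    exact (QuotientGroup.eq_one_iff u).1 (e.injective h5)
  -- the center has order two
  obtain ⟨t', ht'⟩ : ∃ t' : ↥(centralizer ({KDone.K.ι KLinkInst.x₀} : Set ↥InstData.M.G)),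
      (t' : ↥InstData.M.G) = KDone.K.ι KLinkInst.x₀ := ⟨⟨_, mem_centralizer_singleton_iff.2 rfl⟩, rfl⟩
  have htc : t' ∈ center ↥(centralizer ({KDone.K.ι KLinkInst.x₀} : Set ↥InstData.M.G)) := by
    rw [mem_center_iff]
    intro g
    apply Subtype.ext
    show (g : ↥InstData.M.G) * t' = t' * g
    rw [ht']
    exact mem_centralizer_singleton_iff.1 g.2
  have ht1 : t' ≠ 1 := by
    intro h
    rw [h] at ht'
    rw [← ht'] at ht
    exact absurd (ht.symm.trans orderOf_one) (by norm_num)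
  by_contra hcon
  push Not at hcon
  have hu1 : u ≠ 1 := fun h => hcon.1 (by rw [h]; rfl)
  have hut : u ≠ t' := fun h => hcon.2 (by rw [h, ht'])
  have h6 := (Nat.card_eq_two_iff' (1 : ↥(center ↥(centralizer ({KDone.K.ι KLinkInst.x₀} : Set ↥InstData.M.G))))).1 h1
  obtain ⟨y, -, hy⟩ := h6
  have h7 := hy ⟨u, h3⟩ (fun h => hu1 (congrArg Subtype.val h))
  have h8 := hy ⟨t', htc⟩ (fun h => ht1 (congrArg Subtype.val h))
  exact hut (congrArg Subtype.val (h7.trans h8.symm))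

theorem center_M : center ↥InstData.M.G = ⊥ := by
  have A := Cfsg.Agent.MonsterN.LitFin.all
  have h1 : Finite ↥InstData.M.G := Cfsg.Agent.MonsterX.MainBasic.G_finite A.hO
  have h2 : IsSimpleGroup ↥InstData.M.G := A.isM.1
  refine H848.CubeM.centerless ?_
  rw [A.isM.2]
  norm_num

theorem noRCI_M : Cfsg.Agent.H483.Rad23.NoRCI 2 ↥InstData.M.G := by
  have hfin : Finite ↥InstData.M.G := MThirteen.Row.finite
  refine noRCI_of_family center_M ?_
  intro x hx
  obtain ⟨t, ht⟩ : ∃ t : ↥InstData.M.G, t = KDone.K.ι KLinkInst.x₀ := ⟨_, rfl⟩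
  have hR : ∀ u : ↥(centralizer ({t} : Set ↥InstData.M.G)),
      u ∈ solvableRadical ↥(centralizer ({t} : Set ↥InstData.M.G)) → (u : ↥InstData.M.G) = 1 ∨ (u : ↥InstData.M.G) = t := by
    rw [ht]
    intro u hu
    exact rad_t hu
  obtain ⟨g, hg⟩ := ModelB.exists_conj_t LitFin.all.hG LitFin.all.hR KDone.lnk KDone.lft KDone.lnk.x₀_mem
  rw [← ht] at hg
  have ht2 : orderOf t = 2 := H377.SporB.orderOf_t (isConj_iff.2 ⟨g, hg⟩)
  have ht1 : t ≠ 1 := by
    rintro h
    rw [h, orderOf_one] at ht2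
    norm_num at ht2
  obtain ⟨q, hq⟩ := KLift.exists_flip KDone.lft KLinkInst.x₀ KDone.lnk.x₀_mem
  have hz1 : KDone.K.z ≠ 1 := by
    intro h
    exact KDone.K.zc_ne (InvTwo.ι_inj KDone.lft (h.trans (map_one _).symm))
  have hzt : KDone.K.z * t = t * KDone.K.z := by
    rw [ht]
    show KDone.K.ι KDone.K.zc * _ = _ * KDone.K.ι KDone.K.zc
    rw [← map_mul, ← map_mul, KDone.K.zc_comm]
  have hq' : KDone.K.ι q * t * (KDone.K.ι q)⁻¹ = KDone.K.z * t := by
    rw [ht]
    show _ = KDone.K.ι KDone.K.zc * _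
    rw [← map_mul, ← map_inv, ← map_mul, hq, map_mul]
  have hzt' : KDone.K.z * t ≠ t := fun h => hz1 (mul_eq_right.1 h)
  have hne : KDone.K.z ≠ t := by
    intro h
    have h1 : KDone.K.ι q * KDone.K.z = KDone.K.z * KDone.K.ι q := by
      show KDone.K.ι q * KDone.K.ι KDone.K.zc = KDone.K.ι KDone.K.zc * KDone.K.ι q
      rw [← map_mul, ← map_mul, KDone.K.zc_comm]
    rw [← h, h1, mul_inv_cancel_right] at hq'
    exact hz1 (mul_eq_left.1 hq'.symm)
  have hxx : x * x = 1 := by rw [← pow_two, ← hx, pow_orderOf_eq_one]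
  have hx1 : x ≠ 1 := by
    rintro rfl
    rw [orderOf_one] at hx
    norm_num at hx
  have hzG : KDone.K.z = zG LitFin.all.hG := Subtype.ext KDone.lnk.z_eq.symm
  have hcj1 : ∀ k : ↥InstData.M.G, k * t * k⁻¹ ≠ 1 := by
    intro k h
    apply ht1
    calc t = k⁻¹ * (k * t * k⁻¹) * k := by group
      _ = 1 := by rw [h]; group
  rcases LitFin.all.classes x hxx hx1 with ⟨k, hk⟩ | ⟨k, hk⟩
  · rw [← hzG] at hk
    refine ⟨k * t * k⁻¹, hcj1 k, ?_, ?_, rad_conj hR k⟩
    · rw [← hk]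
      calc k * KDone.K.z * k⁻¹ * (k * t * k⁻¹) = k * (KDone.K.z * t) * k⁻¹ := by group
        _ = k * (t * KDone.K.z) * k⁻¹ := by rw [hzt]
        _ = _ := by group
    · intro h
      rw [← hk] at h
      exact hne (mul_left_cancel (mul_right_cancel h))
  · -- `x = k g⁻¹ t g k⁻¹`
    have hk' : (k * g⁻¹) * t * (k * g⁻¹)⁻¹ = x := by
      rw [← hk, ← hg]
      group
    refine ⟨(k * g⁻¹ * KDone.K.ι q) * t * (k * g⁻¹ * KDone.K.ι q)⁻¹, hcj1 _, ?_, ?_, rad_conj hR _⟩
    · have h1 : (k * g⁻¹ * KDone.K.ι q) * t * (k * g⁻¹ * KDone.K.ι q)⁻¹ =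
          (k * g⁻¹) * (KDone.K.z * t) * (k * g⁻¹)⁻¹ := by
        rw [← hq']; group
      rw [h1, ← hk']
      calc (k * g⁻¹) * t * (k * g⁻¹)⁻¹ * ((k * g⁻¹) * (KDone.K.z * t) * (k * g⁻¹)⁻¹) =
          (k * g⁻¹) * (t * KDone.K.z * t) * (k * g⁻¹)⁻¹ := by group
        _ = (k * g⁻¹) * (KDone.K.z * t * t) * (k * g⁻¹)⁻¹ := by rw [hzt]
        _ = _ := by group
    · have h1 : (k * g⁻¹ * KDone.K.ι q) * t * (k * g⁻¹ * KDone.K.ι q)⁻¹ =
          (k * g⁻¹) * (KDone.K.z * t) * (k * g⁻¹)⁻¹ := by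
        rw [← hq']; group
      rw [h1, ← hk']
      intro h
      exact hzt' (mul_left_cancel (mul_right_cancel h)).symm

/-- **The Monster, order two.** -/
theorem noRC_M {K : Type*} [Group K] [Finite K] (h : Cfsg.Spor.IsoM K) : Cfsg.Agent.H483.Rad23.NoRC 2 K := by
  obtain ⟨e⟩ := h
  obtain ⟨f⟩ := Cfsg.Agent.MonsterP.Equiv.equiv
  have hfin : Finite ↥InstData.M.G := MThirteen.Row.finite
  exact Cfsg.Agent.H483.Rad23.NoRC.congr (e.trans f)
    (Cfsg.Agent.H483.Rad23.noRC_of_inner center_M (fun x _ => H848.CubeM.inner_G x) noRCI_M)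

/-- **The Monster, order two.** -/
theorem row2_m {K : Type*} [Group K] [Finite K] [IsSimpleGroup K] (h : Cfsg.Spor.IsoM K) :
    Cfsg.Agent.H483.Rad23.Row23 2 K := (noRC_M h).row

end Cfsg.Agent.H961.Rad2M
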