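import Mathlib
import Cfsg.Prelude.Def_Classification2
import Cfsg.Prelude.Def_Transfer
import Cfsg.Agent.H566.Reduce
import Cfsg.Agent.H9.KSec
import Cfsg.Agent.H961.CompFac

/-!
# Coprime elementary abelian groups of automorphisms with solvable fixed points: reduction to simple groups

* `SC r Q` : the property for known simple groups;
* `compK_of_sc` : the reduction; `compK_sub` : the form for subgroups.
-/

set_option autoImplicit false

namespace Cfsg.Agent.H961.CopRed

open Subgroup Cfsg
open Cfsg.Agent.H566 Cfsg.Agent.H961.CompFac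

universe u

/-- an elementary abelian group of automorphisms -/
def El (r : ℕ) {K : Type*} [Group K] (A : Subgroup (MulAut K)) : Prop :=
  (∀ a ∈ A, ∀ b ∈ A, a * b = b * a) ∧ ∀ a ∈ A, a ^ r = 1

/-- the property of the simple groups -/
def SC (r : ℕ) (Q : ∀ (X : Type u) [Group X], Prop) : Prop :=
  ∀ (S : Type u) [Group S] [Finite S] [IsSimpleGroup S], (¬ ∀ a b : S, a * b = b * a) → IsKGroup S →
    ∀ A : Subgroup (MulAut S), El r A → (Nat.card A).Coprime (Nat.card S) → Group.IsSolvable (Fx A) → Q S

theorem El.range {r : ℕ} {K L : Type*} [Group K] [Group L] {A : Subgroup (MulAut K)} (h : El r A)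
    (f : ↥A →* MulAut L) : El r f.range := by
  constructor
  · rintro _ ⟨a, rfl⟩ _ ⟨b, rfl⟩
    rw [← map_mul, ← map_mul]
    congr 1
    exact Subtype.ext (h.1 a a.2 b b.2)
  · rintro _ ⟨a, rfl⟩
    rw [← map_pow]
    have : a ^ r = 1 := Subtype.ext (h.2 a a.2)
    rw [this, map_one]

theorem El.isSolvable {r : ℕ} {K : Type*} [Group K] {A : Subgroup (MulAut K)} (h : El r A) : Group.IsSolvable A :=
  Group.isSolvable_of_comm fun a b => Subtype.ext (h.1 a a.2 b b.2)

theorem El.indT {r : ℕ} {G : Type u} [Group G] {A : Subgroup (MulAut G)} (h : El r A) (T : Subgroup G) :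
    El r (indT A T) := by
  have h1 : El r (stG A T) := by
    constructor
    · rintro _ ⟨a, -, rfl⟩ _ ⟨b, -, rfl⟩
      exact h.1 a a.2 b b.2
    · rintro _ ⟨a, -, rfl⟩
      exact h.2 a a.2
  exact h1.range _

/-- subgroups of solvable groups through an injection -/
theorem solv_of_inj {H L : Type*} [Group H] [Group L] (hL : Group.IsSolvable L) (f : H →* L)
    (hf : Function.Injective f) : Group.IsSolvable H :=
  Group.isSolvable_of_isSolvable_injective (f := f) hf

theorem solv_indT_fx {G : Type u} [Group G] [Finite G] {A : Subgroup (MulAut G)} {T : Subgroup G} (hT : T ∈ NSim G)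
    (h : Group.IsSolvable (Fx A)) : Group.IsSolvable (Fx (indT A T)) := by
  have hfin : Finite (MulAut G) := inferInstance
  let _ : Fintype (↥A ⧸ stT A T) := Fintype.ofFinite _
  refine solv_of_inj h ((dg (A := A) hT).codRestrict (Fx A) (dg_mem hT)) ?_
  intro x y h
  exact dg_injective hT (congrArg Subtype.val h)

theorem solv_rest {G : Type u} [Group G] {A : Subgroup (MulAut G)} {N : Subgroup G} (hN : Stab A N)
    (h : Group.IsSolvable (Fx A)) : Group.IsSolvable (Fx (rest hN).range) := by
  refine solv_of_inj h ((N.subtype.comp (Fx (rest hN).range).subtype).codRestrict (Fx A) ?_) ?_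
  · rintro ⟨x, hx⟩ α hα
    have h1 := hx _ ⟨⟨α, hα⟩, rfl⟩
    exact congrArg Subtype.val h1
  · intro x y hxy
    exact Subtype.ext (Subtype.ext (show (x.1 : G) = y.1 from congrArg (fun z : Fx A => (z : G)) hxy))

theorem solv_quo {G : Type u} [Group G] [Finite G] {A : Subgroup (MulAut G)} {N : Subgroup G} [N.Normal]
    (hN : Stab A N) (hcop : (Nat.card A).Coprime (Nat.card N)) (hs : Group.IsSolvable A)
    (h : Group.IsSolvable (Fx A)) : Group.IsSolvable (Fx (quo hN).range) := by
  let f : Fx A →* Fx (quo hN).range :=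
    ((QuotientGroup.mk' N).comp (Fx A).subtype).codRestrict (Fx (quo hN).range) (by
      rintro ⟨g, hg⟩ _ ⟨a, rfl⟩
      show quo hN a (QuotientGroup.mk g) = QuotientGroup.mk g
      rw [quo_mk, hg a.1 a.2])
  have hf : Function.Surjective f := by
    rintro ⟨x, hx⟩
    obtain ⟨g, hg⟩ := exists_lift hN hcop (Or.inl hs) x hx
    exact ⟨g, Subtype.ext hg⟩
  exact Group.isSolvable_of_surjective (f := f) hf

/-- solvable groups have no nonabelian composition factors -/
theorem compK_of_comm {Q : ∀ (X : Type u) [Group X], Prop} (hQ : Inv Q) {G : Type u} [Group G]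
    (h : ∀ a b : G, a * b = b * a) : IsCompositionKGroupWith Q G := by
  rw [compK_iff hQ]
  intro H hH S _ _ hna f hf
  exfalso
  apply hna
  intro a b
  obtain ⟨x, rfl⟩ := hf a
  obtain ⟨y, rfl⟩ := hf b
  rw [← map_mul, ← map_mul]
  congr 1
  exact Subtype.ext (h _ _)

/-- **The reduction.** -/
theorem compK_of_sc {r : ℕ} {Q : ∀ (X : Type u) [Group X], Prop} (hQ : Inv Q) (hS : SC r Q) :
    ∀ (G : Type u) [Group G] [Finite G], IsKGroup G → ∀ A : Subgroup (MulAut G), El r A →
      (Nat.card A).Coprime (Nat.card G) → Group.IsSolvable (Fx A) → IsCompositionKGroupWith Q G := by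
  intro G _ _ hK
  induction hn : Nat.card G using Nat.strong_induction_on generalizing G with
  | _ n ih =>
  subst hn
  intro A hA hcop hsol
  by_cases hmin : ∀ N : Subgroup G, N.Normal → Stab A N → N = ⊥ ∨ N = ⊤
  · by_cases hna : ∀ a b : G, a * b = b * a
    · exact compK_of_comm hQ hna
    · obtain ⟨T, hT⟩ := exists_nsim hna hmin
      apply compK_of_sSup hQ
      have key : ∀ T' ∈ NSim G, Q T' := by
        intro T' hT'
        have hT's := hT'.2.1
        refine hS T' (fun h => hT'.2.2 fun a ha b hb => ?_) ?_ _ (hA.indT T') ?_ (solv_indT_fx hT' hsol)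
        · exact congrArg Subtype.val (h ⟨a, ha⟩ ⟨b, hb⟩)
        · exact H9.KSec.isKGroup_of_section hK T' (MonoidHom.id _) Function.surjective_id
        · exact (hcop.coprime_dvd_left (card_indT T')).coprime_dvd_right (Subgroup.card_subgroup_dvd_card T')
      have h1 : {T' : Subgroup G | T' ∈ NSim G ∧ Q T'} = NSim G := by
        ext T'
        exact ⟨fun h => h.1, fun h => ⟨h, key T' h⟩⟩
      rw [h1]
      have hst : ∀ α : MulAut G, (sSup (NSim G)).map α.toMonoidHom ≤ sSup (NSim G) := by
        intro α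
        rw [(Subgroup.gc_map_comap α.toMonoidHom).l_sSup]
        exact iSup₂_le fun T' hT' => le_sSup (NSim.map hT' α)
      have hn : (sSup (NSim G)).Normal := by
        constructor
        intro x hx g
        have h2 := hst (MulAut.conj g) (Subgroup.mem_map_of_mem (MulAut.conj g).toMonoidHom hx)
        exact h2
      rcases hmin _ hn (fun α _ g hg => hst α (Subgroup.mem_map_of_mem α.toMonoidHom hg)) with h2 | h2
      · exfalso
        have h3 : T ≤ ⊥ := by rw [← h2]; exact le_sSup hT
        apply hT.2.2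
        intro a ha b hb
        rw [Subgroup.mem_bot.1 (h3 ha), Subgroup.mem_bot.1 (h3 hb)]
      · exact h2
  · push Not at hmin
    obtain ⟨N, hN, hst, hb, ht⟩ := hmin
    have hcN : (Nat.card A).Coprime (Nat.card N) := hcop.coprime_dvd_right (Subgroup.card_subgroup_dvd_card N)
    have hAs := hA.isSolvable
    refine compK_ext hQ N (ih _ ?_ N ?_ rfl _ (hA.range (rest hst)) ?_ (solv_rest hst hsol))
      (ih _ ?_ (G ⧸ N) ?_ rfl _ (hA.range (quo hst)) ?_ (solv_quo hst hcN hAs hsol))
    · exact lt_of_le_of_ne N.card_le_card_group fun h => ht (Subgroup.eq_top_of_card_eq N h)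
    · exact H9.KSec.isKGroup_of_section hK N (MonoidHom.id _) Function.surjective_id
    · exact hcN.coprime_dvd_left (Subgroup.card_range_dvd _)
    · have h2 : 1 < Nat.card N := by
        rw [Subgroup.one_lt_card_iff_ne_bot]; exact hb
      have h3 := Subgroup.card_eq_card_quotient_mul_card_subgroup N
      have h4 : 0 < Nat.card (G ⧸ N) := Nat.card_pos
      nlinarith
    · exact H9.KSec.isKGroup_of_section hK ⊤ ((QuotientGroup.mk' N).comp (Subgroup.topEquiv (G := G)).toMonoidHom)
        ((QuotientGroup.mk'_surjective N).comp (Subgroup.topEquiv (G := G)).surjective)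
    · exact (hcop.coprime_dvd_left (Subgroup.card_range_dvd _)).coprime_dvd_right
        (Subgroup.card_quotient_dvd_card N)

/-- The action of `A ≤ N(G)` on `G`. -/
def conjOn {X : Type u} [Group X] {A G : Subgroup X} (h : A ≤ normalizer (G : Set X)) : ↥A →* MulAut ↥G :=
  G.normalizerMonoidHom.comp (Subgroup.inclusion h)

theorem conjOn_apply {X : Type u} [Group X] {A G : Subgroup X} (h : A ≤ normalizer (G : Set X)) (a : ↥A) (g : ↥G) :
    (conjOn h a g : X) = a * g * (a : X)⁻¹ := rfl

/-- **Subgroups.** -/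
theorem compK_sub {r : ℕ} {Q : ∀ (X : Type u) [Group X], Prop} (hQ : Inv Q) (hS : SC r Q) {X : Type u} [Group X]
    [Finite X] {A G : Subgroup X} (hA : IsElementaryAbelian r A) (hAG : A ≤ normalizer (G : Set X))
    (hcop : (Nat.card A).Coprime (Nat.card G)) (hK : IsKGroup ↥G)
    (hC : Group.IsSolvable ↥(G ⊓ centralizer (A : Set X))) : IsCompositionKGroupWith Q ↥G := by
  refine compK_of_sc hQ hS G hK (conjOn hAG).range ⟨?_, ?_⟩ (hcop.coprime_dvd_left (Subgroup.card_range_dvd _)) ?_
  · rintro _ ⟨a, rfl⟩ _ ⟨b, rfl⟩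
    rw [← map_mul, ← map_mul]
    congr 1
    exact hA.1.is_comm.comm a b
  · rintro _ ⟨a, rfl⟩
    rw [← map_pow]
    have : a ^ r = 1 := Subtype.ext (hA.2 a a.2)
    rw [this, map_one]
  · refine solv_of_inj hC ((G.subtype.comp (Fx (conjOn hAG).range).subtype).codRestrict _ ?_) ?_
    · rintro ⟨x, hx⟩
      show (x : X) ∈ G ⊓ centralizer (A : Set X)
      refine Subgroup.mem_inf.2 ⟨x.2, ?_⟩
      rw [mem_centralizer_iff]
      intro a ha
      have h2 := congrArg Subtype.val (hx _ ⟨⟨a, ha⟩, rfl⟩)
      rw [conjOn_apply] at h2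
      exact mul_inv_eq_iff_eq_mul.1 h2
    · intro x y hxy
      exact Subtype.ext (Subtype.ext
        (show ((x.1 : ↥G) : X) = y.1 from congrArg (fun z : ↥(G ⊓ centralizer (A : Set X)) => (z : X)) hxy))

end Cfsg.Agent.H961.CopRed
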