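import Cfsg.Agent.H961.LineChar

/-!
# Degree primes from the stabilizer of a line (helper961)
-/

set_option autoImplicit false

namespace Cfsg.Agent.H961.LineChar

open Cfsg Matrix

theorem exists_theta {A : Type*} [CommGroup A] [Finite A] (Z : Subgroup A) {a : A} (ha : a ∉ Z) :
    ∃ θ : A →* ℂˣ, (∀ z ∈ Z, θ z = 1) ∧ θ a ≠ 1 := by
  have h1 : (QuotientGroup.mk a : A ⧸ Z) ≠ 1 := by
    rw [Ne, QuotientGroup.eq_one_iff]
    exact ha
  obtain ⟨φ, hφ⟩ := CommGroup.exists_apply_ne_one_of_hasEnoughRootsOfUnity (A ⧸ Z) ℂ h1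
  refine ⟨φ.comp (QuotientGroup.mk' Z), fun z hz => ?_, hφ⟩
  rw [MonoidHom.comp_apply, QuotientGroup.mk'_apply, (QuotientGroup.eq_one_iff z).2 hz, map_one]

variable {F : Type*} [Field F] {n : Type*} [Fintype n] [DecidableEq n] {G : Type*} [Group G]

theorem not_dvd_card [Finite G] (ρ : G →* Matrix n n F) {e : n → F} (he : e ≠ 0) {r k p : ℕ}
    (hU : ∀ g, ρ g *ᵥ e = e → g ^ (r ^ k) = 1) (hp : p.Prime) (hpr : ¬ p ∣ r)
    (hpF : ¬ p ∣ Nat.card Fˣ) : ¬ p ∣ Nat.card (lineStab ρ e) := by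
  intro hd
  have := Fact.mk hp
  obtain ⟨g, hg⟩ := exists_prime_orderOf_dvd_card' p hd
  have h1 : orderOf (eig ρ he g) ∣ p := by
    rw [← hg]
    exact orderOf_map_dvd _ _
  have h2 : orderOf (eig ρ he g) ∣ Nat.card Fˣ := orderOf_dvd_natCard _
  have h3 : eig ρ he g = 1 := by
    rcases (Nat.dvd_prime hp).1 h1 with h | h
    · exact orderOf_eq_one_iff.1 h
    · rw [h] at h2
      exact absurd h2 hpF
  have h4 : ρ g *ᵥ e = e := by
    rw [eig_spec ρ he g, h3, Units.val_one, one_smul]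
  have h5 := hU g h4
  have h6 : g ^ (r ^ k) = 1 := Subtype.ext h5
  have h7 : p ∣ r ^ k := by
    rw [← hg]
    exact orderOf_dvd_of_pow_eq_one h6
  exact hpr (hp.dvd_of_dvd_pow h7)

/-- **Degree primes from the stabilizer of a line.** -/
theorem mem_degreePrimes' (G : Type*) [Group G] [Finite G] [Finite F] (ρ : G →* Matrix n n F)
    {e : n → F} (he : e ≠ 0) (Z' : Subgroup Fˣ) {α δ : Fˣ} (hαδ : α * δ⁻¹ ∉ Z')
    (h : ∀ x, x ∉ lineStab ρ e → ∃ t, ρ t *ᵥ e = (α : F) • e ∧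
      ρ t *ᵥ (ρ x *ᵥ e) = (δ : F) • (ρ x *ᵥ e))
    (Z : Subgroup G) [Z.Normal] (hZ : ∀ z ∈ Z, ∃ ω : Fˣ, ω ∈ Z' ∧ ∀ v, ρ z *ᵥ v = (ω : F) • v)
    {r k p : ℕ} (hU : ∀ g, ρ g *ᵥ e = e → g ^ (r ^ k) = 1) (hp : p.Prime) (hpr : ¬ p ∣ r)
    (hpF : ¬ p ∣ Nat.card Fˣ) (hpG : p ∣ Nat.card (G ⧸ Z)) : p ∈ degreePrimes (G ⧸ Z) := by
  replace hpG : p ∣ Nat.card G := hpG.trans (Subgroup.card_quotient_dvd_card Z)
  obtain ⟨θ, hθ, hθ'⟩ := exists_theta Z' hαδ
  have hne : θ α ≠ θ δ := by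
    intro h0
    apply hθ'
    rw [map_mul, map_inv, h0, mul_inv_cancel]
  refine mem_degreePrimes G ρ he θ hne h Z (fun z hz => ?_) hp ?_
  · obtain ⟨ω, hω, hv⟩ := hZ z hz
    exact ⟨ω, hθ ω hω, hv⟩
  · rw [← (lineStab ρ e).card_mul_index] at hpG
    exact (hp.dvd_mul.1 hpG).resolve_left (not_dvd_card ρ he hU hp hpr hpF)

/-- A unipotent element has order a power of the characteristic. -/
theorem pow_eq_one_of_nilp {r : ℕ} [Fact r.Prime] [CharP F r] {M N : Matrix n n F} {k : ℕ}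
    (hM : M = 1 + N) (hN : N ^ (r ^ k) = 0) : M ^ (r ^ k) = 1 := by
  have : CharP (Matrix n n F) r ∨ Subsingleton (Matrix n n F) := by
    by_cases hn : Nonempty n
    · exact Or.inl inferInstance
    · rw [not_nonempty_iff] at hn
      exact Or.inr inferInstance
  rcases this with h | h
  · rw [hM, add_pow_char_pow_of_commute r k (Commute.one_left N), one_pow, hN, add_zero]
  · exact Subsingleton.elim _ _

end Cfsg.Agent.H961.LineChar
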