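import Cfsg.Agent.H961.LineChar2

/-!
# Degree primes of `PSL₂(q)` (helper961)
-/

set_option autoImplicit false

namespace Cfsg.Agent.H961.LinePSL2

open Cfsg Matrix Cfsg.Agent.H961.LineChar

variable {F : Type*} [Field F]

/-- The natural module of `SL₂(F)`. -/
def rho (F : Type*) [Field F] : SpecialLinearGroup (Fin 2) F →* Matrix (Fin 2) (Fin 2) F where
  toFun g := g.1
  map_one' := rfl
  map_mul' _ _ := rfl

theorem rho_apply (g : SpecialLinearGroup (Fin 2) F) : rho F g = g.1 := rfl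

def e1 (F : Type*) [Field F] : Fin 2 → F := ![1, 0]

theorem e1_ne : e1 F ≠ 0 := fun h => by
  have := congrFun h 0
  simp [e1] at this

/-- the element with eigenvector `e₁` for `a` and `(x, y)` for `a⁻¹` -/
def tor (a : Fˣ) (s : F) : SpecialLinearGroup (Fin 2) F :=
  ⟨!![(a : F), s; 0, ((a⁻¹ : Fˣ) : F)], by
    rw [Matrix.det_fin_two_of, mul_zero, sub_zero, ← Units.val_mul, mul_inv_cancel, Units.val_one]⟩

theorem rho_tor (a : Fˣ) (s : F) : rho F (tor a s) = !![(a : F), s; 0, ((a⁻¹ : Fˣ) : F)] := rfl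

theorem exists_tor (γ : Fˣ) (x : SpecialLinearGroup (Fin 2) F) (hx : x ∉ lineStab (rho F) (e1 F)) :
    ∃ t, rho F t *ᵥ e1 F = (γ : F) • e1 F ∧
      rho F t *ᵥ (rho F x *ᵥ e1 F) = ((γ⁻¹ : Fˣ) : F) • (rho F x *ᵥ e1 F) := by
  have hc : x.1 1 0 ≠ 0 := by
    intro h0
    apply hx
    have hdet := x.2
    rw [Matrix.det_fin_two, h0, mul_zero, sub_zero] at hdet
    have h00 : x.1 0 0 ≠ 0 := left_ne_zero_of_mul (by rw [hdet]; exact one_ne_zero)
    refine ⟨Units.mk0 _ h00, ?_⟩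
    ext i
    fin_cases i
    · simp [rho_apply, e1, Matrix.mulVec, dotProduct, Fin.sum_univ_two]
    · simp [rho_apply, e1, Matrix.mulVec, dotProduct, Fin.sum_univ_two, h0]
  refine ⟨tor γ ((((γ⁻¹ : Fˣ) : F) - γ) * x.1 0 0 / x.1 1 0), ?_, ?_⟩
  · rw [rho_tor]
    ext i
    fin_cases i <;> simp [e1, Matrix.mulVec, dotProduct, Fin.sum_univ_two]
  · rw [rho_tor, rho_apply]
    ext i
    fin_cases i
    · simp [e1, Matrix.mulVec, dotProduct, Fin.sum_univ_two]
      field_simp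
      ring
    · simp [e1, Matrix.mulVec, dotProduct, Fin.sum_univ_two]

theorem unip (r : ℕ) [Fact r.Prime] [CharP F r] (g : SpecialLinearGroup (Fin 2) F)
    (hg : rho F g *ᵥ e1 F = e1 F) : g ^ (r ^ 1) = 1 := by
  have h0 : g.1 0 0 = 1 := by
    have := congrFun hg 0
    simpa [rho_apply, e1, Matrix.mulVec, dotProduct, Fin.sum_univ_two] using this
  have h1 : g.1 1 0 = 0 := by
    have := congrFun hg 1
    simpa [rho_apply, e1, Matrix.mulVec, dotProduct, Fin.sum_univ_two] using this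
  have h2 : g.1 1 1 = 1 := by
    have hdet := g.2
    rw [Matrix.det_fin_two, h0, h1, mul_zero, sub_zero, one_mul] at hdet
    exact hdet
  apply Subtype.ext
  rw [Matrix.SpecialLinearGroup.coe_pow]
  refine pow_eq_one_of_nilp (r := r) (k := 1) (N := !![0, g.1 0 1; 0, 0]) ?_ ?_
  · ext i j
    fin_cases i <;> fin_cases j <;> simp [h0, h1, h2]
  · have h3 : (!![0, g.1 0 1; 0, 0] : Matrix (Fin 2) (Fin 2) F) ^ 2 = 0 := by
      rw [pow_two]
      ext i j
      fin_cases i <;> fin_cases j <;> simp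
    exact pow_eq_zero_of_le (by rw [pow_one]; exact (Fact.out : r.Prime).two_le) h3

theorem mem_degreePrimes [Finite F] (r : ℕ) [Fact r.Prime] [CharP F r] (hq : 6 ≤ Nat.card F) {p : ℕ}
    (hp : p.Prime) (hpr : p ≠ r) (hpF : ¬ p ∣ Nat.card F - 1)
    (hpG : p ∣ Nat.card (ProjectiveSpecialLinearGroup (Fin 2) F)) :
    p ∈ degreePrimes (ProjectiveSpecialLinearGroup (Fin 2) F) := by
  obtain ⟨γ, hγ⟩ := IsCyclic.exists_generator (α := Fˣ)
  have hcard : Nat.card Fˣ = Nat.card F - 1 := Nat.card_units F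
  have hord : orderOf γ = Nat.card F - 1 := by
    rw [orderOf_eq_card_of_forall_mem_zpowers hγ, hcard]
  refine LineChar.mem_degreePrimes' (SpecialLinearGroup (Fin 2) F) (rho F) e1_ne
    (Z' := (powMonoidHom 2 : Fˣ →* Fˣ).ker) (α := γ) (δ := γ⁻¹) ?_ (exists_tor γ) _ ?_
    (r := r) (k := 1) (unip r) hp ?_ ?_ hpG
  · rw [MonoidHom.mem_ker, powMonoidHom_apply, inv_inv, ← pow_two, ← pow_mul]
    intro h
    have h1 := orderOf_dvd_of_pow_eq_one h
    rw [hord] at h1
    have := Nat.le_of_dvd (by norm_num) h1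
    omega
  · intro z hz
    obtain ⟨c, hc, hz⟩ := Matrix.SpecialLinearGroup.mem_center_iff.1 hz
    rw [Fintype.card_fin] at hc
    have hc0 : c ≠ 0 := by
      rintro rfl
      rw [zero_pow two_ne_zero] at hc
      exact zero_ne_one hc
    refine ⟨Units.mk0 c hc0, ?_, fun v => ?_⟩
    · rw [MonoidHom.mem_ker, powMonoidHom_apply]
      apply Units.ext
      simpa using hc
    · rw [rho_apply]
      have : z.1 = Matrix.scalar (Fin 2) c := hz.symm
      rw [this]
      ext i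
      simp [Matrix.mulVec_diagonal]
  · intro h
    exact hpr ((Nat.prime_dvd_prime_iff_eq hp Fact.out).1 h)
  · rw [hcard]
    exact hpF

end Cfsg.Agent.H961.LinePSL2
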