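import Cfsg.Agent.H961.LineChar2
import Cfsg.Agent.LieRecognition.PSUThreeSylow
import Cfsg.Agent.ClassicalGeometry.PSUAutBasic
import Cfsg.Agent.S0754

/-!
# Degree primes of `PSU₃(q)` (helper961)
-/

set_option autoImplicit false

namespace Cfsg.Agent.H961.LinePSU3

open Cfsg Matrix Cfsg.Agent.H961.LineChar Cfsg.Agent.LieRecognition.PSUThreeSylow

variable {F : Type*} [Field F] {σ : F →+* F}

def e1 (F : Type*) [Field F] : Fin 3 → F := ![1, 0, 0]

def e3 (F : Type*) [Field F] : Fin 3 → F := ![0, 0, 1]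

theorem e1_ne : e1 F ≠ 0 := fun h => by
  have := congrFun h 0
  simp [e1] at this

/-- diagonal matrices -/
def dmat (a m d : F) : Matrix (Fin 3) (Fin 3) F := !![a, 0, 0; 0, m, 0; 0, 0, d]

/-- unitriangular matrices -/
def umt (a b c : F) : Matrix (Fin 3) (Fin 3) F := !![1, a, b; 0, 1, c; 0, 0, 1]

theorem umt_mul (a b c : F) : umt a b c * umt (-a) (a * c - b) (-c) = 1 := by
  ext i j
  fin_cases i <;> fin_cases j <;> simp [umt, Matrix.mul_apply, Fin.sum_univ_three]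
  ring

theorem det_umt (a b c : F) : (umt a b c).det = 1 := by
  rw [umt, Matrix.det_fin_three]
  simp

theorem umt_form (hσ : ∀ x, σ (σ x) = x) {b c : F} (h : b + σ b + c * σ c = 0) :
    (umt (-σ c) b c)ᵀ * Jm F * (umt (-σ c) b c).map σ = Jm F := by
  ext i j
  fin_cases i <;> fin_cases j <;> simp [umt, Jm, Matrix.mul_apply, Fin.sum_univ_three, hσ]
  linear_combination h

theorem dmat_form {a m d : F} (h1 : a * σ d = 1) (h2 : m * σ m = 1) (h3 : d * σ a = 1) :
    (dmat a m d)ᵀ * Jm F * (dmat a m d).map σ = Jm F := by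
  ext i j
  fin_cases i <;> fin_cases j <;> simp [dmat, Jm, Matrix.mul_apply, Fin.sum_univ_three, h1, h2, h3]

theorem det_dmat (a m d : F) : (dmat a m d).det = a * m * d := by
  rw [dmat, Matrix.det_fin_three]
  simp

/-- the torus element -/
theorem exists_d (hσ : ∀ x, σ (σ x) = x) (α : Fˣ) : ∃ D : SpecialLinearGroup (Fin 3) F,
    D ∈ SUJ σ ∧ ∃ m, D.1 = dmat (α : F) m (σ α)⁻¹ := by
  have h0 : (σ α : F) ≠ 0 := (map_ne_zero σ).2 α.ne_zero
  refine ⟨⟨dmat (α : F) (σ α / α) (σ α)⁻¹, ?_⟩, ?_, _, rfl⟩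
  · rw [det_dmat]
    field_simp
  · refine dmat_form ?_ ?_ ?_
    · rw [map_inv₀, hσ]
      exact mul_inv_cancel₀ α.ne_zero
    · rw [map_div₀, hσ]
      field_simp
    · exact inv_mul_cancel₀ h0

theorem exists_tor (hσ : ∀ x, σ (σ x) = x) (α : Fˣ) (x : SpecialLinearGroup (Fin 3) F)
    (hx : x ∈ SUJ σ) (h2 : x.1 2 0 ≠ 0) : ∃ t ∈ SUJ σ, t.1 *ᵥ e1 F = (α : F) • e1 F ∧
      t.1 *ᵥ (x.1 *ᵥ e1 F) = (σ α)⁻¹ • (x.1 *ᵥ e1 F) := by
  obtain ⟨D, hD, m, hDm⟩ := exists_d hσ α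
  have hE := entry_of_mem_SUJ hx 0 0
  have hJ : Jm F 0 0 = 0 := by simp [Jm]
  rw [hJ] at hE
  have h2' : σ (x.1 2 0) ≠ 0 := (map_ne_zero σ).2 h2
  have hbc : x.1 0 0 / x.1 2 0 + σ (x.1 0 0 / x.1 2 0) +
      x.1 1 0 / x.1 2 0 * σ (x.1 1 0 / x.1 2 0) = 0 := by
    rw [map_div₀, map_div₀]
    field_simp
    linear_combination hE
  set b := x.1 0 0 / x.1 2 0 with hb
  set c := x.1 1 0 / x.1 2 0 with hc
  let U : SpecialLinearGroup (Fin 3) F := ⟨umt (-σ c) b c, det_umt _ _ _⟩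
  have hU : U ∈ SUJ σ := umt_form hσ hbc
  have hU1 : U.1 *ᵥ e1 F = e1 F := by
    ext i
    fin_cases i <;> simp [U, umt, e1, Matrix.mulVec, dotProduct, Fin.sum_univ_three]
  have hU3 : x.1 *ᵥ e1 F = (x.1 2 0) • (U.1 *ᵥ e3 F) := by
    ext i
    fin_cases i
    · simp [U, umt, e1, e3, Matrix.mulVec, dotProduct, Fin.sum_univ_three, hb]
      field_simp
    · simp [U, umt, e1, e3, Matrix.mulVec, dotProduct, Fin.sum_univ_three, hc]
      field_simp
    · simp [U, umt, e1, e3, Matrix.mulVec, dotProduct, Fin.sum_univ_three]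
  have hUi : U⁻¹.1 * U.1 = 1 := congrArg Subtype.val (inv_mul_cancel U)
  have hD1 : D.1 *ᵥ e1 F = (α : F) • e1 F := by
    rw [hDm]
    ext i
    fin_cases i <;> simp [dmat, e1, Matrix.mulVec, dotProduct, Fin.sum_univ_three]
  have hD3 : D.1 *ᵥ e3 F = (σ α)⁻¹ • e3 F := by
    rw [hDm]
    ext i
    fin_cases i <;> simp [dmat, e3, Matrix.mulVec, dotProduct, Fin.sum_univ_three]
  refine ⟨U * D * U⁻¹, (SUJ σ).mul_mem ((SUJ σ).mul_mem hU hD) ((SUJ σ).inv_mem hU), ?_, ?_⟩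
  · change (U.1 * D.1 * U⁻¹.1) *ᵥ e1 F = _
    have h1 : U⁻¹.1 *ᵥ e1 F = e1 F := by
      rw [← hU1, Matrix.mulVec_mulVec, hUi, Matrix.one_mulVec, hU1]
    rw [← Matrix.mulVec_mulVec, ← Matrix.mulVec_mulVec, h1, hD1, Matrix.mulVec_smul, hU1]
  · change (U.1 * D.1 * U⁻¹.1) *ᵥ _ = _
    have h1 : U⁻¹.1 *ᵥ (U.1 *ᵥ e3 F) = e3 F := by
      rw [Matrix.mulVec_mulVec, hUi, Matrix.one_mulVec]
    rw [hU3, Matrix.mulVec_smul, ← Matrix.mulVec_mulVec, ← Matrix.mulVec_mulVec, h1, hD3,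
      Matrix.mulVec_smul, smul_comm]

theorem unip {r : ℕ} [Fact r.Prime] [CharP F r] (x : SpecialLinearGroup (Fin 3) F) (hx : x ∈ SUJ σ)
    (h : x.1 *ᵥ e1 F = e1 F) : x ^ (r ^ 2) = 1 := by
  have h0 : x.1 0 0 = 1 := by
    have := congrFun h 0
    simpa [e1, Matrix.mulVec, dotProduct, Fin.sum_univ_three] using this
  have h1 : x.1 1 0 = 0 := by
    have := congrFun h 1
    simpa [e1, Matrix.mulVec, dotProduct, Fin.sum_univ_three] using this
  have h2 : x.1 2 0 = 0 := by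
    have := congrFun h 2
    simpa [e1, Matrix.mulVec, dotProduct, Fin.sum_univ_three] using this
  have h22 : x.1 2 2 = 1 := by
    have hE := entry_of_mem_SUJ hx 0 2
    rw [h0, h1, h2] at hE
    have hJ : Jm F 0 2 = 1 := by simp [Jm]
    rw [hJ] at hE
    apply σ.injective
    rw [map_one]
    linear_combination hE
  have h21 : x.1 2 1 = 0 := by
    have hE := entry_of_mem_SUJ hx 0 1
    rw [h0, h1, h2] at hE
    have hJ : Jm F 0 1 = 0 := by simp [Jm]
    rw [hJ] at hE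
    apply σ.injective
    rw [map_zero]
    linear_combination hE
  have h11 : x.1 1 1 = 1 := by
    have hdet := x.2
    rw [Matrix.det_fin_three, h0, h1, h2, h22, h21] at hdet
    linear_combination hdet
  apply Subtype.ext
  rw [Matrix.SpecialLinearGroup.coe_pow]
  refine pow_eq_one_of_nilp (r := r) (k := 2) (N := !![0, x.1 0 1, x.1 0 2; 0, 0, x.1 1 2; 0, 0, 0]) ?_ ?_
  · ext i j
    fin_cases i <;> fin_cases j <;> simp [h0, h1, h2, h22, h21, h11]
  · have h3 : (!![0, x.1 0 1, x.1 0 2; 0, 0, x.1 1 2; 0, 0, 0] : Matrix (Fin 3) (Fin 3) F) ^ 3 = 0 := by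
      rw [pow_succ, pow_two]
      ext i j
      fin_cases i <;> fin_cases j <;> simp [Matrix.mul_apply, Fin.sum_univ_three]
    have h4 : 3 ≤ r ^ 2 := by
      have := (Fact.out : r.Prime).two_le
      nlinarith
    exact pow_eq_zero_of_le h4 h3

/-- The matrix taking the standard form to the antidiagonal form, odd characteristic. -/
theorem exists_T_odd (h2 : (2 : F) ≠ 0) {i : F} (hi : i * σ i = -1) :
    ∃ T T' : Matrix (Fin 3) (Fin 3) F, T * T' = 1 ∧ Tᵀ * T.map σ = Jm F := by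
  have h2' : σ 2 = 2 := by
    rw [show (2 : F) = 1 + 1 by norm_num, map_add, map_one]
  have hi2 : i ^ 2 ≠ 0 := by
    intro h0
    have : i = 0 := by simpa using h0
    rw [this, zero_mul] at hi
    exact one_ne_zero (neg_eq_zero.1 hi.symm)
  refine ⟨!![1, 0, 1 / 2; i, 0, - i / 2; 0, 1, 0], !![1 / 2, 1 / (2 * i), 0; 0, 0, 1; 1, - 1 / i, 0], ?_, ?_⟩
  · have hi0 : i ≠ 0 := fun h => hi2 (by rw [h]; simp)
    ext a b
    fin_cases a <;> fin_cases b <;> simp [Matrix.mul_apply, Fin.sum_univ_three]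
    all_goals field_simp
    all_goals try ring
  · ext a b
    fin_cases a <;> fin_cases b <;> simp [Jm, Matrix.mul_apply, Fin.sum_univ_three, h2']
    · linear_combination hi
    · field_simp
      linear_combination - hi
    · field_simp
      linear_combination - hi
    · field_simp
      linear_combination hi

/-- The action of `SU₃(q)` in the antidiagonal basis. -/
def rho (F : Type*) [Field F] (q : ℕ) {T T' : Matrix (Fin 3) (Fin 3) F} (h : T * T' = 1) :
    SU 3 F q →* Matrix (Fin 3) (Fin 3) F where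
  toFun g := ((conjT h).symm g.1).1
  map_one' := by
    rw [Subgroup.coe_one, map_one]
    rfl
  map_mul' g k := by
    rw [Subgroup.coe_mul, map_mul]
    rfl

theorem rho_apply {q : ℕ} {T T' : Matrix (Fin 3) (Fin 3) F} (h : T * T' = 1) (g : SU 3 F q) :
    rho F q h g = ((conjT h).symm g.1).1 := rfl

theorem symm_mem {q : ℕ} (hs : ∀ x, σ x = x ^ q) {T T' : Matrix (Fin 3) (Fin 3) F}
    (h : T * T' = 1) (hT : Tᵀ * T.map σ = Jm F) (g : SU 3 F q) : (conjT h).symm g.1 ∈ SUJ σ := by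
  obtain ⟨k, hk, e⟩ := (SU_eq_map hs h hT).ge g.2
  rw [← e]
  simpa using hk

theorem exists_of_mem {q : ℕ} (hs : ∀ x, σ x = x ^ q) {T T' : Matrix (Fin 3) (Fin 3) F}
    (h : T * T' = 1) (hT : Tᵀ * T.map σ = Jm F) {k : SpecialLinearGroup (Fin 3) F}
    (hk : k ∈ SUJ σ) : ∃ g : SU 3 F q, rho F q h g = k.1 := by
  refine ⟨⟨conjT h k, ?_⟩, ?_⟩
  · rw [← SU_eq_map hs h hT]
    exact ⟨k, hk, rfl⟩
  · rw [rho_apply, MulEquiv.symm_apply_apply]

theorem exists_T_all [Fintype F] {q r f : ℕ} [Fact r.Prime] [CharP F r] (hF : Fintype.card F = q ^ 2)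
    (hqr : q = r ^ f) (hq : 2 ≤ q) : ∃ σ : F →+* F, (∀ x, σ x = x ^ q) ∧ (∀ x, σ (σ x) = x) ∧
      ∃ T T' : Matrix (Fin 3) (Fin 3) F, T * T' = 1 ∧ Tᵀ * T.map σ = Jm F := by
  have hs : ∀ x, iterateFrobenius F r f x = x ^ q := fun x => by
    rw [iterateFrobenius_def, hqr]
  have hσ : ∀ x, iterateFrobenius F r f (iterateFrobenius F r f x) = x := fun x => by
    rw [hs, hs, ← pow_mul, ← pow_two, ← hF, FiniteField.pow_card]
  refine ⟨iterateFrobenius F r f, hs, hσ, ?_⟩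
  obtain ⟨γ, hγ⟩ := IsCyclic.exists_generator (α := Fˣ)
  have hord : orderOf γ = q ^ 2 - 1 := by
    rw [orderOf_eq_card_of_forall_mem_zpowers hγ, Nat.card_units, Nat.card_eq_fintype_card, hF]
  by_cases h2 : (2 : F) = 0
  · have : CharP F 2 := CharTwo.of_one_ne_zero_of_two_eq_zero one_ne_zero h2
    have : Fact (∀ x, iterateFrobenius F r f (iterateFrobenius F r f x) = x) := ⟨hσ⟩
    refine exists_T (σ := iterateFrobenius F r f) (c := (γ : F)) ?_
    rw [hs]
    intro h0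
    have h1 : γ ^ q = γ := Units.ext (by rw [Units.val_pow_eq_pow_val]; exact h0)
    have h3 : γ ^ (q - 1) = 1 := by
      have h4 : γ ^ (q - 1) * γ = 1 * γ := by
        rw [← pow_succ, one_mul]
        convert h1 using 2
        omega
      exact mul_right_cancel h4
    have h5 := orderOf_dvd_of_pow_eq_one h3
    rw [hord] at h5
    have h6 := Nat.le_of_dvd (by omega) h5
    have : q * 2 ≤ q ^ 2 := by nlinarith
    omega
  · have hodd : (-1 : F) ^ q = -1 := by
      have : Odd q := by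
        rw [hqr]
        apply Odd.pow
        rcases (Fact.out : r.Prime).eq_two_or_odd' with h | h
        · exfalso
          apply h2
          have := CharP.cast_eq_zero F r
          rw [h] at this
          exact_mod_cast this
        · exact h
      exact this.neg_one_pow
    have hn := S0754.result hF (-1) (neg_ne_zero.2 one_ne_zero) hodd
    have : 0 < Nat.card {x : F // x ^ (q + 1) = -1} := by omega
    obtain ⟨⟨i, hi⟩⟩ := (Nat.card_pos_iff.1 this).1
    refine exists_T_odd h2 (i := i) ?_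
    rw [hs, ← pow_succ']
    exact hi

theorem mem_degreePrimes [Fintype F] {q r f : ℕ} [Fact r.Prime] [CharP F r]
    (hF : Fintype.card F = q ^ 2) (hqr : q = r ^ f) (hq : 4 ≤ q) {p : ℕ}
    (hp : p.Prime) (hpr : p ≠ r) (hpF : ¬ p ∣ q ^ 2 - 1)
    (hpG : p ∣ Nat.card (PSU 3 F q)) : p ∈ degreePrimes (PSU 3 F q) := by
  obtain ⟨σ, hs, hσ, T, T', h, hT⟩ := exists_T_all (r := r) hF hqr (by omega)
  obtain ⟨γ, hγ⟩ := IsCyclic.exists_generator (α := Fˣ)
  have hcard : Nat.card Fˣ = q ^ 2 - 1 := by rw [Nat.card_units, Nat.card_eq_fintype_card, hF]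
  have hord : orderOf γ = q ^ 2 - 1 := by
    rw [orderOf_eq_card_of_forall_mem_zpowers hγ, hcard]
  refine LineChar.mem_degreePrimes' (SU 3 F q) (rho F q h) e1_ne
    (Z' := (powMonoidHom (q + 1) : Fˣ →* Fˣ).ker) (α := γ) (δ := (γ ^ q)⁻¹) ?_ ?_ _ ?_
    (r := r) (k := 2) ?_ hp ?_ ?_ hpG
  · rw [MonoidHom.mem_ker, powMonoidHom_apply, inv_inv, ← pow_succ', ← pow_mul]
    intro h1
    have h2 := orderOf_dvd_of_pow_eq_one h1
    rw [hord] at h2
    obtain ⟨m, rfl⟩ : ∃ m, q = m + 1 := ⟨q - 1, by omega⟩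
    have h3 : (m + 1) ^ 2 - 1 = (m + 1 + 1) * m := by
      rw [Nat.sub_eq_iff_eq_add (Nat.one_le_pow _ _ (by omega))]
      ring
    rw [h3] at h2
    have h4 := Nat.dvd_of_mul_dvd_mul_left (by omega) h2
    have h5 : m ∣ 2 := by
      have : m + 1 + 1 = 2 + m := by ring
      rw [this] at h4
      exact (Nat.dvd_add_left (dvd_refl m)).1 h4
    have := Nat.le_of_dvd (by norm_num) h5
    omega
  · intro x hx
    have hk := symm_mem hs h hT x
    have h2 : ((conjT h).symm x.1).1 2 0 ≠ 0 := by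
      intro h0
      apply hx
      have hE := entry_of_mem_SUJ hk 0 0
      have hJ : Jm F 0 0 = 0 := by simp [Jm]
      rw [hJ, h0, map_zero, mul_zero, zero_mul, zero_add, add_zero, mul_eq_zero, map_eq_zero,
        or_self] at hE
      have h00 : ((conjT h).symm x.1).1 0 0 ≠ 0 := by
        intro h00
        have hdet := ((conjT h).symm x.1).2
        rw [Matrix.det_fin_three, h0, hE, h00] at hdet
        simp at hdet
      refine ⟨Units.mk0 _ h00, ?_⟩
      rw [rho_apply]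
      ext i
      fin_cases i <;> simp [e1, Matrix.mulVec, dotProduct, Fin.sum_univ_three, hE, h0]
    obtain ⟨t, ht, ht1, ht2⟩ := exists_tor hσ γ _ hk h2
    obtain ⟨g, hg⟩ := exists_of_mem hs h hT ht
    refine ⟨g, ?_, ?_⟩
    · rw [hg, ht1]
    · rw [hg, rho_apply, ht2, hs]
      congr 1
      simp
  · intro z hz
    obtain ⟨c, hc, hcc, hv⟩ := Cfsg.Agent.ClassicalGeometry.PSUAutBasic.exists_scalar_of_mem_center hF le_rfl hz
    refine ⟨Units.mk0 c hc, ?_, fun v => ?_⟩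
    · rw [MonoidHom.mem_ker, powMonoidHom_apply]
      apply Units.ext
      rw [Units.val_pow_eq_pow_val, Units.val_mk0, pow_succ', Units.val_one]
      exact hcc
    · change (T' * z.1.1 * T) *ᵥ v = c • v
      rw [← Matrix.mulVec_mulVec, ← Matrix.mulVec_mulVec]
      have h1 : z.1.1 *ᵥ (T *ᵥ v) = c • (T *ᵥ v) := hv _
      rw [h1, Matrix.mulVec_smul, Matrix.mulVec_mulVec, mul_eq_one_comm.mp h, Matrix.one_mulVec]
  · intro g hg
    have h1 := unip (r := r) _ (symm_mem hs h hT g) hg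
    rw [← map_pow] at h1
    apply Subtype.ext
    rw [Subgroup.coe_pow, Subgroup.coe_one]
    exact (MulEquiv.map_eq_one_iff _).1 h1
  · intro h
    exact hpr ((Nat.prime_dvd_prime_iff_eq hp Fact.out).1 h)
  · rw [hcard]
    exact hpF

end Cfsg.Agent.H961.LinePSU3
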