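import Cfsg.Agent.H961.SevLift

/-!
# The consequences of the relations `Loc` (helper961)

`T = ⟨y, w, v, s⟩` has order `7 ^ 4` (`|C(y)|_7 = 7 ^ 4`), derived subgroup `⟨w⟩` and centre `⟨y, w⟩`.
* `exists_inv` : if some element inverts `y`, then some element inverting `y` commutes with `w`;
* `sylow_le` : if `7 ^ 5` divides `|K|`, then `w` is central in a Sylow 7-subgroup of `K`.
-/

set_option autoImplicit false

namespace Cfsg.Agent.H961.SevLift

open Subgroup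

section General

variable {K : Type*} [Group K]

/-- the elements commuting with `w` and with `x` modulo `⟨w⟩` -/
def DD (w x : K) : Subgroup K where
  carrier := {g | g * w = w * g ∧ g * x * g⁻¹ * x⁻¹ ∈ zpowers w}
  one_mem' := ⟨by rw [one_mul, mul_one], by
    have : (1 : K) * x * 1⁻¹ * x⁻¹ = 1 := by group
    rw [this]; exact one_mem _⟩
  mul_mem' := by
    rintro g h ⟨hg, hgx⟩ ⟨hh, hhx⟩
    refine ⟨by rw [mul_assoc, hh, ← mul_assoc, hg, mul_assoc], ?_⟩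
    obtain ⟨i, hi⟩ := mem_zpowers_iff.1 hhx
    have h1 : g * h * x * (g * h)⁻¹ * x⁻¹ = g * (h * x * h⁻¹ * x⁻¹) * g⁻¹ * (g * x * g⁻¹ * x⁻¹) := by group
    rw [h1, ← hi, ((show Commute g w from hg).zpow_right i).eq, mul_inv_cancel_right]
    exact mul_mem (zpow_mem (mem_zpowers w) i) hgx
  inv_mem' := by
    rintro g ⟨hg, hgx⟩
    have hg' : g⁻¹ * w = w * g⁻¹ := (show Commute g w from hg).inv_left.eq
    refine ⟨hg', ?_⟩
    obtain ⟨i, hi⟩ := mem_zpowers_iff.1 hgx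
    have h1 : g⁻¹ * x * g⁻¹⁻¹ * x⁻¹ = g⁻¹ * (g * x * g⁻¹ * x⁻¹)⁻¹ * g := by group
    have h2 : g⁻¹ * (w ^ i)⁻¹ = (w ^ i)⁻¹ * g⁻¹ :=
      (((show Commute g⁻¹ w from hg').zpow_right i).inv_right).eq
    rw [h1, ← hi, h2, inv_mul_cancel_right]
    exact inv_mem (zpow_mem (mem_zpowers w) i)

theorem mem_DD {w x g : K} : g ∈ DD w x ↔ g * w = w * g ∧ g * x * g⁻¹ * x⁻¹ ∈ zpowers w := Iff.rfl

theorem mem_DD_symm {w x g : K} (hx : x * w = w * x) (h : g ∈ DD w x) : x ∈ DD w g := by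
  refine ⟨hx, ?_⟩
  have : x * g * x⁻¹ * g⁻¹ = (g * x * g⁻¹ * x⁻¹)⁻¹ := by group
  rw [this]
  exact inv_mem h.2

theorem mem_DD_of_comm {w x g : K} (hg : g * w = w * g) (h : g * x = x * g) : g ∈ DD w x := by
  refine ⟨hg, ?_⟩
  rw [h]
  have : x * g * g⁻¹ * x⁻¹ = 1 := by group
  rw [this]
  exact one_mem _

theorem zpowers_le_normalizer {g : K} {B : Subgroup K} [Finite K] (h : ∀ b ∈ B, g * b * g⁻¹ ∈ B) :
    zpowers g ≤ normalizer (B : Set K) := by
  rw [zpowers_le]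
  have h1 : B.map (MulAut.conj g).toMonoidHom = B := by
    apply eq_of_le_of_card_ge
    · rintro _ ⟨b, hb, rfl⟩
      exact h b hb
    · rw [card_map_of_injective (f := (MulAut.conj g).toMonoidHom) (MulAut.conj g).injective]
  rw [mem_normalizer_iff]
  intro b
  constructor
  · exact h b
  · intro hb
    have h2 : g * b * g⁻¹ ∈ B.map (MulAut.conj g).toMonoidHom := by rw [h1]; exact hb
    obtain ⟨b', hb', hbb⟩ := h2
    have h3 : g * b' * g⁻¹ = g * b * g⁻¹ := hbb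
    have h4 : b' = b := mul_left_cancel (mul_right_cancel h3)
    rwa [← h4]

/-- proper subgroups of `p`-groups -/
theorem card_step {p : ℕ} (hp : p.Prime) [Finite K] {A B : Subgroup K} (hB : IsPGroup p ↥B) (hAB : A < B) {k : ℕ}
    (hA : p ^ k ∣ Nat.card ↥A) : p ^ (k + 1) ∣ Nat.card ↥B := by
  have : Fact p.Prime := ⟨hp⟩
  obtain ⟨m, hm⟩ := IsPGroup.iff_card.1 hB
  have h1 : Nat.card ↥A ∣ p ^ m := hm ▸ card_dvd_of_le hAB.le
  obtain ⟨l, hl, hl2⟩ := (Nat.dvd_prime_pow hp).1 h1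
  have h2 : l ≠ m := by
    rintro rfl
    exact hAB.ne (eq_of_le_of_card_ge hAB.le (by rw [hm, hl2]))
  rw [hl2] at hA
  have h3 : k ≤ l := (Nat.pow_dvd_pow_iff_le_right hp.one_lt).1 hA
  rw [hm]
  exact pow_dvd_pow p (by omega)

theorem mem_of_coprime_pow {C : Subgroup K} {n : K} {a b : ℕ} (hab : a.Coprime b) (h1 : n ^ a ∈ C) (h2 : n ^ b ∈ C) :
    n ∈ C := by
  have h3 : (1 : ℤ) = a * Nat.gcdA a b + b * Nat.gcdB a b := by
    have := Nat.gcd_eq_gcd_ab a b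
    rw [hab] at this
    exact_mod_cast this
  have h4 : n = (n ^ a) ^ Nat.gcdA a b * (n ^ b) ^ Nat.gcdB a b := by
    rw [← zpow_natCast, ← zpow_natCast, ← zpow_mul, ← zpow_mul, ← zpow_add, ← h3, zpow_one]
  rw [h4]
  exact mul_mem (zpow_mem h1 _) (zpow_mem h2 _)

theorem conj_pow_zpow {n w : K} {k : ℤ} (h : n * w * n⁻¹ = w ^ k) (m : ℕ) : n ^ m * w * (n ^ m)⁻¹ = w ^ k ^ m := by
  induction m with
  | zero => simp
  | succ m ih =>
    have h1 : n ^ (m + 1) * w * (n ^ (m + 1))⁻¹ = n * (n ^ m * w * (n ^ m)⁻¹) * n⁻¹ := by rw [pow_succ']; group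
    rw [h1, ih, ← conj_zpow, h, ← zpow_mul, ← pow_succ']

/-- the sixth power of an element normalising a group of order 7 centralises it -/
theorem pow_six_comm {n w : K} (hw : w ^ 7 = 1) (h : n * w * n⁻¹ ∈ zpowers w) : n ^ 6 * w = w * n ^ 6 := by
  obtain ⟨k, hk⟩ := mem_zpowers_iff.1 h
  have h1 := conj_pow_zpow hk.symm 6
  have hwz : w ^ (7 : ℤ) = 1 := by exact_mod_cast hw
  have hmod : ∀ m : ℤ, w ^ m = w ^ (m % 7) := by
    intro m
    conv_lhs => rw [← Int.emod_add_mul_ediv m 7, zpow_add, zpow_mul, hwz, one_zpow, mul_one]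
  by_cases h0 : k % 7 = 0
  · have h2 : w = 1 := by
      rw [hmod k, h0, zpow_zero] at hk
      exact conj_eq_one_iff.1 hk.symm
    rw [h2, mul_one, one_mul]
  · have h2 : k ^ 6 % 7 = 1 := by
      have h3 : k % 7 = 1 ∨ k % 7 = 2 ∨ k % 7 = 3 ∨ k % 7 = 4 ∨ k % 7 = 5 ∨ k % 7 = 6 := by omega
      have h4 : k ^ 6 % 7 = (k % 7) ^ 6 % 7 := (Int.ModEq.pow 6 (Int.mod_modEq k 7)).symm
      rw [h4]
      rcases h3 with h3 | h3 | h3 | h3 | h3 | h3 <;> rw [h3] <;> norm_num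
    rw [hmod, h2, zpow_one, mul_inv_eq_iff_eq_mul] at h1
    exact h1

end General

section Main

variable {K : Type*} [Group K] {y w v s a c : K}

/-- `⟨y, w⟩` -/
def TA (y w : K) : Subgroup K := zpowers w ⊔ zpowers y
/-- `⟨y, w, v⟩` -/
def TB (y w v : K) : Subgroup K := zpowers v ⊔ TA y w
/-- `⟨y, w, v, s⟩` -/
def TT (y w v s : K) : Subgroup K := zpowers s ⊔ TB y w v

theorem Loc.y71 (h : Loc y w v s a c) : y ^ 7 = 1 := by rw [← h.y7, pow_orderOf_eq_one]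

theorem y_mem_TA : y ∈ TA y w := mem_sup_right (mem_zpowers y)
theorem w_mem_TA : w ∈ TA y w := mem_sup_left (mem_zpowers w)
theorem TA_le_TB : TA y w ≤ TB y w v := le_sup_right
theorem v_mem_TB : v ∈ TB y w v := mem_sup_left (mem_zpowers v)
theorem TB_le_TT : TB y w v ≤ TT y w v s := le_sup_right
theorem s_mem_TT : s ∈ TT y w v s := mem_sup_left (mem_zpowers s)
theorem v_mem_TT : v ∈ TT y w v s := TB_le_TT v_mem_TB
theorem w_mem_TT : w ∈ TT y w v s := TB_le_TT (TA_le_TB w_mem_TA)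
theorem y_mem_TT : y ∈ TT y w v s := TB_le_TT (TA_le_TB y_mem_TA)

theorem TT_le {B : Subgroup K} (hy : y ∈ B) (hw : w ∈ B) (hv : v ∈ B) (hs : s ∈ B) : TT y w v s ≤ B :=
  sup_le (zpowers_le.2 hs) (sup_le (zpowers_le.2 hv) (sup_le (zpowers_le.2 hw) (zpowers_le.2 hy)))

theorem TA_le {B : Subgroup K} (hy : y ∈ B) (hw : w ∈ B) : TA y w ≤ B := sup_le (zpowers_le.2 hw) (zpowers_le.2 hy)

theorem TB_le {B : Subgroup K} (hy : y ∈ B) (hw : w ∈ B) (hv : v ∈ B) : TB y w v ≤ B :=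
  sup_le (zpowers_le.2 hv) (TA_le hy hw)

theorem Loc.TT_le_cy (h : Loc y w v s a c) : TT y w v s ≤ centralizer ({y} : Set K) :=
  TT_le (mem_centralizer_singleton_iff.2 rfl) (mem_centralizer_singleton_iff.2 h.yw)
    (mem_centralizer_singleton_iff.2 h.yv) (mem_centralizer_singleton_iff.2 h.ys)

theorem Loc.TT_le_cw (h : Loc y w v s a c) : TT y w v s ≤ centralizer ({w} : Set K) :=
  TT_le (mem_centralizer_singleton_iff.2 h.yw.symm) (mem_centralizer_singleton_iff.2 rfl)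
    (mem_centralizer_singleton_iff.2 h.wv.symm) (mem_centralizer_singleton_iff.2 h.ws.symm)

/-- commutators of elements of `T` are powers of `w` -/
theorem Loc.comm_mem (h : Loc y w v s a c) {g x : K} (hg : g ∈ TT y w v s) (hx : x ∈ TT y w v s) :
    g * x * g⁻¹ * x⁻¹ ∈ zpowers w := by
  have hc : ∀ g ∈ TT y w v s, g * w = w * g := fun g hg => mem_centralizer_singleton_iff.1 (h.TT_le_cw hg)
  -- it is enough to treat the generators
  have key : ∀ x ∈ TT y w v s, (y ∈ DD w x ∧ w ∈ DD w x ∧ v ∈ DD w x ∧ s ∈ DD w x) → ∀ g ∈ TT y w v s, g ∈ DD w x :=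
    fun x _ ⟨h1, h2, h3, h4⟩ g hg => TT_le h1 h2 h3 h4 hg
  have hy : ∀ g ∈ TT y w v s, g ∈ DD w y := fun g hg =>
    mem_DD_of_comm (hc g hg) (mem_centralizer_singleton_iff.1 (h.TT_le_cy hg))
  have hw : ∀ g ∈ TT y w v s, g ∈ DD w w := fun g hg => mem_DD_of_comm (hc g hg) (hc g hg)
  have hsv : s ∈ DD w v := ⟨h.ws.symm, by rw [h.sv]; exact mem_zpowers w⟩
  have hvs : v ∈ DD w s := mem_DD_symm h.wv.symm hsv
  have hv : ∀ g ∈ TT y w v s, g ∈ DD w v := key v v_mem_TT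
    ⟨mem_DD_symm h.yw.symm (hy v v_mem_TT), mem_DD_symm rfl (hw v v_mem_TT), mem_DD_of_comm h.wv.symm rfl, hsv⟩
  have hs : ∀ g ∈ TT y w v s, g ∈ DD w s := key s s_mem_TT
    ⟨mem_DD_symm h.yw.symm (hy s s_mem_TT), mem_DD_symm rfl (hw s s_mem_TT), hvs, mem_DD_of_comm h.ws.symm rfl⟩
  exact (key x hx ⟨mem_DD_symm h.yw.symm (hy x hx), mem_DD_symm rfl (hw x hx), mem_DD_symm h.wv.symm (hv x hx),
    mem_DD_symm h.ws.symm (hs x hx)⟩ g hg).2

theorem Loc.v_notMem (h : Loc y w v s a c) : v ∉ TA y w := by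
  intro h1
  have h2 : TA y w ≤ centralizer ({s} : Set K) :=
    TA_le (mem_centralizer_singleton_iff.2 h.ys.symm) (mem_centralizer_singleton_iff.2 h.ws)
  have h3 := mem_centralizer_singleton_iff.1 (h2 h1)
  apply h.w1
  rw [← h.sv, ← h3]
  group

theorem Loc.s_notMem (h : Loc y w v s a c) : s ∉ TB y w v := by
  intro h1
  have h2 : TB y w v ≤ centralizer ({v} : Set K) :=
    TB_le (mem_centralizer_singleton_iff.2 h.yv.symm) (mem_centralizer_singleton_iff.2 h.wv)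
      (mem_centralizer_singleton_iff.2 rfl)
  have h3 := mem_centralizer_singleton_iff.1 (h2 h1)
  apply h.w1
  rw [← h.sv, h3]
  group

variable [Finite K]

omit [Finite K] in
theorem pgroup_zpowers {g y : K} (hy : y ^ 7 = 1) (hg : g ^ 7 ∈ zpowers y) : IsPGroup 7 ↥(zpowers g) := by
  rintro ⟨_, k, rfl⟩
  refine ⟨2, Subtype.ext ?_⟩
  change (g ^ k) ^ 7 ^ 2 = 1
  obtain ⟨i, hi⟩ := mem_zpowers_iff.1 hg
  have h1 : g ^ (7 ^ 2) = 1 := by
    rw [pow_two, pow_mul, ← hi, ← zpow_natCast, ← zpow_mul, mul_comm, zpow_mul, zpow_natCast, hy, one_zpow]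
  rw [← zpow_natCast, ← zpow_mul, mul_comm, zpow_mul, zpow_natCast, h1, one_zpow]

theorem Loc.pgroup_TA (h : Loc y w v s a c) : IsPGroup 7 ↥(TA y w) := by
  refine IsPGroup.to_sup_of_normal_right' (pgroup_zpowers h.y71 (by rw [h.w7]; exact one_mem _))
    (pgroup_zpowers h.y71 (by rw [h.y71]; exact one_mem _)) (zpowers_le_normalizer ?_)
  intro b hb
  have : zpowers y ≤ centralizer ({w} : Set K) := zpowers_le.2 (mem_centralizer_singleton_iff.2 h.yw.symm)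
  rw [← mem_centralizer_singleton_iff.1 (this hb), mul_inv_cancel_right]
  exact hb

theorem Loc.pgroup_TB (h : Loc y w v s a c) : IsPGroup 7 ↥(TB y w v) := by
  refine IsPGroup.to_sup_of_normal_right' (pgroup_zpowers h.y71 h.v7) h.pgroup_TA (zpowers_le_normalizer ?_)
  intro b hb
  have : TA y w ≤ centralizer ({v} : Set K) :=
    TA_le (mem_centralizer_singleton_iff.2 h.yv.symm) (mem_centralizer_singleton_iff.2 h.wv)
  rw [← mem_centralizer_singleton_iff.1 (this hb), mul_inv_cancel_right]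
  exact hb

theorem Loc.pgroup (h : Loc y w v s a c) : IsPGroup 7 ↥(TT y w v s) := by
  refine IsPGroup.to_sup_of_normal_right' (pgroup_zpowers h.y71 h.s7) h.pgroup_TB (zpowers_le_normalizer ?_)
  intro b hb
  have h1 := h.comm_mem (s_mem_TT (y := y) (w := w) (v := v)) (TB_le_TT (s := s) hb)
  have h2 : s * b * s⁻¹ = (s * b * s⁻¹ * b⁻¹) * b := by group
  rw [h2]
  exact mul_mem (zpowers_le.2 (TA_le_TB w_mem_TA) h1) hb

theorem Loc.card_TA (h : Loc y w v s a c) : 7 ^ 2 ∣ Nat.card ↥(TA y w) := by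
  refine card_step (by norm_num) h.pgroup_TA (A := zpowers y) ?_ (k := 1) (by rw [Nat.card_zpowers, h.y7]; norm_num)
  refine lt_of_le_of_ne le_sup_right fun h1 => h.wy ?_
  rw [h1]
  exact w_mem_TA

theorem Loc.card_dvd (h : Loc y w v s a c) : 7 ^ 4 ∣ Nat.card ↥(TT y w v s) := by
  refine card_step (by norm_num) h.pgroup (A := TB y w v) ?_ (k := 3) ?_
  · refine lt_of_le_of_ne TB_le_TT fun h1 => h.s_notMem ?_
    rw [h1]
    exact s_mem_TT
  · refine card_step (by norm_num) h.pgroup_TB (A := TA y w) ?_ (k := 2) h.card_TA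
    refine lt_of_le_of_ne TA_le_TB fun h1 => h.v_notMem ?_
    rw [h1]
    exact v_mem_TB

/-- a 7-subgroup of `C(y)` containing `T` is `T` -/
theorem Loc.eq_of_le (h : Loc y w v s a c) (h5 : ¬ 7 ^ 5 ∣ Nat.card ↥(centralizer ({y} : Set K))) {P : Subgroup K}
    (hP : IsPGroup 7 ↥P) (hPy : P ≤ centralizer ({y} : Set K)) (hTP : TT y w v s ≤ P) : P = TT y w v s := by
  by_contra hne
  have h1 : TT y w v s < P := lt_of_le_of_ne hTP (Ne.symm hne)
  exact h5 ((card_step (by norm_num) hP h1 h.card_dvd).trans (card_dvd_of_le hPy))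

theorem Loc.card_eq (h : Loc y w v s a c) (h5 : ¬ 7 ^ 5 ∣ Nat.card ↥(centralizer ({y} : Set K))) :
    Nat.card ↥(TT y w v s) = 7 ^ 4 := by
  have : Fact (Nat.Prime 7) := ⟨by norm_num⟩
  obtain ⟨m, hm⟩ := IsPGroup.iff_card.1 h.pgroup
  have h1 := h.card_dvd
  rw [hm] at h1
  have h2 : 4 ≤ m := (Nat.pow_dvd_pow_iff_le_right (by norm_num)).1 h1
  have h3 : m ≤ 4 := by
    by_contra h4
    apply h5
    refine Dvd.dvd.trans ?_ (card_dvd_of_le h.TT_le_cy)
    rw [hm]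
    exact pow_dvd_pow 7 (by omega)
  rw [hm]
  congr 1
  omega

/-- the central elements of `T` -/
theorem Loc.mem_TA (h : Loc y w v s a c) (h5 : ¬ 7 ^ 5 ∣ Nat.card ↥(centralizer ({y} : Set K))) {u : K}
    (hu : u ∈ TT y w v s) (huc : ∀ t ∈ TT y w v s, t * u = u * t) : u ∈ TA y w := by
  by_contra hne
  have hp7 : Nat.Prime 7 := by norm_num
  have : Fact (Nat.Prime 7) := ⟨hp7⟩
  let Z : Subgroup K := TT y w v s ⊓ centralizer (TT y w v s : Set K)
  have hAZ : TA y w ≤ Z := by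
    refine le_inf (TA_le_TB.trans TB_le_TT) (TA_le ?_ ?_)
    · rw [mem_centralizer_iff]
      exact fun t ht => mem_centralizer_singleton_iff.1 (h.TT_le_cy ht)
    · rw [mem_centralizer_iff]
      exact fun t ht => mem_centralizer_singleton_iff.1 (h.TT_le_cw ht)
  have huZ : u ∈ Z := ⟨hu, mem_centralizer_iff.2 fun t ht => huc t ht⟩
  have h1 : 7 ^ 3 ∣ Nat.card ↥Z := by
    refine card_step hp7 (h.pgroup.to_le inf_le_left) (A := TA y w) ?_ h.card_TA
    refine lt_of_le_of_ne hAZ fun h2 => hne ?_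
    rw [h2]
    exact huZ
  -- `T / Z(T)` is cyclic
  have h2 : (Z.subgroupOf (TT y w v s)) = center ↥(TT y w v s) := by
    ext t
    rw [mem_subgroupOf, mem_center_iff]
    constructor
    · rintro ⟨-, ht⟩ g
      exact Subtype.ext (mem_centralizer_iff.1 ht g g.2)
    · intro ht
      refine ⟨t.2, mem_centralizer_iff.2 fun g hg => ?_⟩
      exact congrArg Subtype.val (ht ⟨g, hg⟩)
  have h3 : 7 ^ 3 ∣ Nat.card ↥(center ↥(TT y w v s)) := by
    rw [← h2, Nat.card_congr (subgroupOfEquivOfLe (inf_le_left : Z ≤ TT y w v s)).toEquiv]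
    exact h1
  have h4 : (center ↥(TT y w v s)).index ∣ 7 := by
    have h6 := (center ↥(TT y w v s)).card_mul_index
    rw [h.card_eq h5] at h6
    obtain ⟨k, hk⟩ := h3
    rw [hk] at h6
    refine ⟨k, ?_⟩
    have h7 : 7 ^ 3 * ((center ↥(TT y w v s)).index * k) = 7 ^ 3 * 7 := by
      rw [← pow_succ, ← h6]; ring
    exact (Nat.eq_of_mul_eq_mul_left (by norm_num) h7).symm
  have h6 : IsCyclic (↥(TT y w v s) ⧸ center ↥(TT y w v s)) := by
    rcases (Nat.dvd_prime hp7).1 h4 with h7 | h7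
    · have : Subsingleton (↥(TT y w v s) ⧸ center ↥(TT y w v s)) := (Nat.card_eq_one_iff_unique.1 h7).1
      infer_instance
    · exact isCyclic_of_prime_card (p := 7) h7
  have h7 := MonoidHom.isMulCommutative_of_isCyclic_of_ker_le_center (QuotientGroup.mk' (center ↥(TT y w v s)))
    (by rw [QuotientGroup.ker_mk'])
  have h8 : s * v = v * s := congrArg Subtype.val (h7.is_comm.comm ⟨s, s_mem_TT⟩ ⟨v, v_mem_TT⟩)
  apply h.w1
  rw [← h.sv, h8]
  group

/-- **`w` is central in a Sylow 7-subgroup.** -/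
theorem Loc.sylow_le (h : Loc y w v s a c) (h5 : ¬ 7 ^ 5 ∣ Nat.card ↥(centralizer ({y} : Set K)))
    (hK : 7 ^ 5 ∣ Nat.card K) : ∃ P : Sylow 7 K, TT y w v s ≤ P ∧ (P : Subgroup K) ≤ centralizer ({w} : Set K) := by
  have hp7 : Nat.Prime 7 := by norm_num
  have : Fact (Nat.Prime 7) := ⟨hp7⟩
  obtain ⟨P, hP⟩ := h.pgroup.exists_le_sylow
  refine ⟨P, hP, ?_⟩
  have hPc : 7 ^ 5 ∣ Nat.card ↥(P : Subgroup K) := by
    rw [P.card_eq_multiplicity]
    exact pow_dvd_pow 7 ((hp7.pow_dvd_iff_le_factorization Nat.card_pos.ne').1 hK)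
  have hPy : (P : Subgroup K) ⊓ centralizer ({y} : Set K) = TT y w v s :=
    h.eq_of_le h5 (P.isPGroup'.to_le inf_le_left) inf_le_right (le_inf hP h.TT_le_cy)
  -- an element of `P` normalising `T`
  have hTlt : (TT y w v s).subgroupOf (P : Subgroup K) < ⊤ := by
    rw [lt_top_iff_ne_top]
    intro h1
    rw [subgroupOf_eq_top] at h1
    have h2 := hPc.trans (card_dvd_of_le h1)
    rw [h.card_eq h5] at h2
    norm_num at h2
  have hnil : Group.IsNilpotent ↥(P : Subgroup K) := P.isPGroup'.isNilpotent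
  obtain ⟨n, hnN, hnT⟩ := SetLike.exists_of_lt
    (Group.normalizerCondition_of_isNilpotent (G := ↥(P : Subgroup K)) _ hTlt)
  have hnT' : (n : K) ∉ TT y w v s := fun h1 => hnT (mem_subgroupOf.2 h1)
  have hnorm : ∀ t ∈ TT y w v s, (n : K) * t * (n : K)⁻¹ ∈ TT y w v s := by
    intro t ht
    exact mem_subgroupOf.1 ((mem_normalizer_iff.1 hnN ⟨t, hP ht⟩).1 (mem_subgroupOf.2 ht))
  -- `n` centralises `w`
  have hnw : (n : K) * w = w * n := by
    have h1 : (n : K) * w * (n : K)⁻¹ ∈ zpowers w := by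
      have h2 := h.comm_mem (hnorm s s_mem_TT) (hnorm v v_mem_TT)
      have h3 : (n : K) * s * (n : K)⁻¹ * ((n : K) * v * (n : K)⁻¹) * ((n : K) * s * (n : K)⁻¹)⁻¹ *
          ((n : K) * v * (n : K)⁻¹)⁻¹ = (n : K) * (s * v * s⁻¹ * v⁻¹) * (n : K)⁻¹ := by group
      rwa [h3, h.sv] at h2
    obtain ⟨k, hk⟩ := P.isPGroup' n
    have h2 : (n : K) ^ 7 ^ k = 1 := by
      have := congrArg Subtype.val hk
      exact this
    have h3 : (n : K) ∈ centralizer ({w} : Set K) :=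
      mem_of_coprime_pow (a := 6) (b := 7 ^ k) (Nat.Coprime.pow_right k (by norm_num))
        (mem_centralizer_singleton_iff.2 (pow_six_comm h.w7 h1)) (by rw [h2]; exact one_mem _)
    exact mem_centralizer_singleton_iff.1 h3
  -- a central element
  have hnt : Nontrivial ↥(P : Subgroup K) := by
    rw [nontrivial_iff_ne_bot]
    intro h1
    rw [h1, card_bot] at hPc
    norm_num at hPc
  have := P.isPGroup'.center_nontrivial
  obtain ⟨⟨u, huc⟩, hu1⟩ := exists_ne (1 : ↥(center ↥(P : Subgroup K)))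
  have huc' : ∀ t ∈ (P : Subgroup K), t * (u : K) = u * t := fun t ht =>
    congrArg Subtype.val (mem_center_iff.1 huc ⟨t, ht⟩)
  have huT : (u : K) ∈ TT y w v s := by
    rw [← hPy]
    exact ⟨u.2, mem_centralizer_singleton_iff.2 (huc' y (hP y_mem_TT)).symm⟩
  have huA := h.mem_TA h5 huT (fun t ht => huc' t (hP ht))
  have huw : (u : K) ∈ zpowers w := by
    by_contra hne
    apply hnT'
    rw [← hPy]
    refine ⟨n.2, ?_⟩
    have h1 : zpowers (u : K) ⊔ zpowers w = TA y w := by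
      apply eq_of_le_of_card_ge (sup_le (zpowers_le.2 huA) (zpowers_le.2 w_mem_TA))
      have h2 : ¬ 7 ^ 3 ∣ Nat.card ↥(TA y w) := by
        intro h3
        have h4 : 7 ^ 5 ∣ Nat.card ↥(TT y w v s) := by
          refine card_step hp7 h.pgroup (A := TB y w v) ?_ (k := 4) ?_
          · refine lt_of_le_of_ne TB_le_TT fun h1 => h.s_notMem ?_
            rw [h1]
            exact s_mem_TT
          · refine card_step hp7 h.pgroup_TB (A := TA y w) ?_ (k := 3) h3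
            refine lt_of_le_of_ne TA_le_TB fun h1 => h.v_notMem ?_
            rw [h1]
            exact v_mem_TB
        rw [h.card_eq h5] at h4
        norm_num at h4
      obtain ⟨m, hm⟩ := IsPGroup.iff_card.1 h.pgroup_TA
      rw [hm] at h2 ⊢
      have h3 : m ≤ 2 := by
        by_contra h4
        exact h2 (pow_dvd_pow 7 (by omega))
      have h4 : 7 ^ 2 ∣ Nat.card ↥(zpowers (u : K) ⊔ zpowers w) := by
        refine card_step hp7 (h.pgroup_TA.to_le (sup_le (zpowers_le.2 huA) (zpowers_le.2 w_mem_TA))) (A := zpowers w) ?_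
          (k := 1) ?_
        · refine lt_of_le_of_ne le_sup_right fun h5 => hne ?_
          rw [h5]
          exact mem_sup_left (mem_zpowers _)
        · rw [Nat.card_zpowers, orderOf_eq_prime h.w7 h.w1]
          norm_num
      exact (Nat.pow_le_pow_right (by norm_num) h3).trans (Nat.le_of_dvd Nat.card_pos h4)
    have h2 : y ∈ zpowers (u : K) ⊔ zpowers w := by rw [h1]; exact y_mem_TA
    have h3 : zpowers (u : K) ⊔ zpowers w ≤ centralizer ({(n : K)} : Set K) :=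
      sup_le (zpowers_le.2 (mem_centralizer_singleton_iff.2 (huc' n n.2).symm))
        (zpowers_le.2 (mem_centralizer_singleton_iff.2 hnw.symm))
    exact mem_centralizer_singleton_iff.2 (mem_centralizer_singleton_iff.1 (h3 h2)).symm
  -- `w ∈ ⟨u⟩`
  have hwu : w ∈ zpowers (u : K) := by
    have h1 : (u : K) ≠ 1 := fun h2 => hu1 (Subtype.ext (Subtype.ext h2))
    have h2 : zpowers (u : K) = zpowers w := by
      apply eq_of_le_of_card_ge (zpowers_le.2 huw)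
      have h3 : (u : K) ^ 7 = 1 := by
        obtain ⟨i, hi⟩ := mem_zpowers_iff.1 huw
        rw [← hi, ← zpow_natCast, ← zpow_mul, mul_comm, zpow_mul, zpow_natCast, h.w7, one_zpow]
      rw [Nat.card_zpowers, Nat.card_zpowers, orderOf_eq_prime h3 h1, orderOf_eq_prime h.w7 h.w1]
    rw [h2]
    exact mem_zpowers w
  intro p hp
  obtain ⟨i, hi⟩ := mem_zpowers_iff.1 hwu
  rw [mem_centralizer_singleton_iff, ← hi]
  exact ((show Commute p (u : K) from huc' p hp).zpow_right i).eq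

/-- **An element inverting `y` and commuting with `w`.** -/
theorem Loc.exists_inv (h : Loc y w v s a c) (h5 : ¬ 7 ^ 5 ∣ Nat.card ↥(centralizer ({y} : Set K))) {t : K}
    (ht : t * y * t⁻¹ = y⁻¹) : ∃ b : K, b * y * b⁻¹ = y⁻¹ ∧ b * w = w * b := by
  have hp7 : Nat.Prime 7 := by norm_num
  have : Fact (Nat.Prime 7) := ⟨hp7⟩
  obtain ⟨T, hT⟩ : ∃ T, T = TT y w v s := ⟨_, rfl⟩
  obtain ⟨C, hC⟩ : ∃ C, C = centralizer ({y} : Set K) := ⟨_, rfl⟩
  rw [← hC] at h5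
  have hTC : T ≤ C := by rw [hT, hC]; exact h.TT_le_cy
  have hTc : Nat.card ↥T = 7 ^ 4 := by rw [hT]; exact h.card_eq (by rwa [← hC])
  have hmC : ∀ g : K, g ∈ C ↔ g * y = y * g := fun g => by rw [hC]; exact mem_centralizer_singleton_iff
  have htC : ∀ g ∈ C, t * g * t⁻¹ ∈ C := by
    intro g hg
    rw [hmC] at hg ⊢
    have h1 : t * y⁻¹ * t⁻¹ = y := by
      have : t * y⁻¹ * t⁻¹ = (t * y * t⁻¹)⁻¹ := by group
      rw [this, ht, inv_inv]
    have hg' : g * y⁻¹ = y⁻¹ * g := ((show Commute g y from hg).inv_right).eq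
    calc t * g * t⁻¹ * y = t * g * t⁻¹ * (t * y⁻¹ * t⁻¹) := by rw [h1]
      _ = t * (g * y⁻¹) * t⁻¹ := by group
      _ = t * (y⁻¹ * g) * t⁻¹ := by rw [hg']
      _ = (t * y⁻¹ * t⁻¹) * (t * g * t⁻¹) := by group
      _ = y * (t * g * t⁻¹) := by rw [h1]
  let T' := T.map (MulAut.conj t).toMonoidHom
  have hT'C : T' ≤ C := by
    rintro _ ⟨g, hg, rfl⟩
    exact htC g (hTC hg)
  have hT'c : Nat.card ↥T' = 7 ^ 4 := by
    rw [← hTc]
    exact card_map_of_injective (f := (MulAut.conj t).toMonoidHom) (MulAut.conj t).injective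
  have hsyl : ∀ B : Subgroup K, B ≤ C → Nat.card ↥B = 7 ^ 4 → ∃ P : Sylow 7 ↥C, (P : Subgroup ↥C) = B.subgroupOf C := by
    intro B hB hBc
    have h1 : Nat.card ↥(B.subgroupOf C) = 7 ^ 4 := by rw [← hBc]; exact Nat.card_congr (subgroupOfEquivOfLe hB).toEquiv
    have h2 : IsPGroup 7 ↥(B.subgroupOf C) := IsPGroup.of_card h1
    have h3 : ¬ 7 ∣ (B.subgroupOf C).index := by
      intro h4
      apply h5
      rw [← (B.subgroupOf C).card_mul_index, h1, pow_succ]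
      exact Nat.mul_dvd_mul_left _ h4
    exact ⟨h2.toSylow h3, rfl⟩
  obtain ⟨P1, hP1⟩ := hsyl T hTC hTc
  obtain ⟨P2, hP2⟩ := hsyl T' hT'C hT'c
  obtain ⟨g, hg⟩ := MulAction.exists_smul_eq ↥C P2 P1
  -- `g t` normalises `T`
  have hgt : ∀ x ∈ T, ((g : K) * t) * x * ((g : K) * t)⁻¹ ∈ T := by
    intro x hx
    have h1 : (⟨t * x * t⁻¹, htC x (hTC hx)⟩ : ↥C) ∈ (P2 : Subgroup ↥C) := by
      rw [hP2, mem_subgroupOf]
      exact ⟨x, hx, rfl⟩
    have h2 : g * (⟨t * x * t⁻¹, htC x (hTC hx)⟩ : ↥C) * g⁻¹ ∈ (P1 : Subgroup ↥C) := by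
      rw [← hg, Sylow.coe_subgroup_smul]
      exact smul_mem_pointwise_smul _ (MulAut.conj g) _ h1
    rw [hP1, mem_subgroupOf] at h2
    have h3 : ((g : K) * t) * x * ((g : K) * t)⁻¹ = (g : K) * (t * x * t⁻¹) * (g : K)⁻¹ := by group
    rw [h3]
    exact h2
  obtain ⟨t1, ht1⟩ : ∃ t1, t1 = (g : K) * t := ⟨_, rfl⟩
  rw [← ht1] at hgt
  have ht1y : t1 * y * t1⁻¹ = y⁻¹ := by
    have h1 : (g : K) * y⁻¹ = y⁻¹ * g := ((show Commute (g : K) y from (hmC _).1 g.2).inv_right).eq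
    calc t1 * y * t1⁻¹ = (g : K) * (t * y * t⁻¹) * (g : K)⁻¹ := by rw [ht1]; group
      _ = y⁻¹ := by rw [ht, h1, mul_inv_cancel_right]
  have ht1w : t1 * w * t1⁻¹ ∈ zpowers w := by
    rw [hT] at hgt
    have h2 := h.comm_mem (hgt s s_mem_TT) (hgt v v_mem_TT)
    have h3 : t1 * s * t1⁻¹ * (t1 * v * t1⁻¹) * (t1 * s * t1⁻¹)⁻¹ * (t1 * v * t1⁻¹)⁻¹ =
        t1 * (s * v * s⁻¹ * v⁻¹) * t1⁻¹ := by group
    rwa [h3, h.sv] at h2
  -- the 2-part
  obtain ⟨e, m, hm, hem⟩ := Nat.exists_eq_two_pow_mul_odd (n := orderOf t1) (orderOf_pos t1).ne'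
  obtain ⟨t2, ht2⟩ : ∃ t2, t2 = t1 ^ m := ⟨_, rfl⟩
  have ht2y : t2 * y * t2⁻¹ = y⁻¹ := by
    obtain ⟨j, hj⟩ := hm
    have h1 : t1 * y⁻¹ * t1⁻¹ = y := by
      have : t1 * y⁻¹ * t1⁻¹ = (t1 * y * t1⁻¹)⁻¹ := by group
      rw [this, ht1y, inv_inv]
    have h2 : (t1 ^ 2) ∈ centralizer ({y} : Set K) := by
      rw [mem_centralizer_singleton_iff]
      have : t1 ^ 2 * y * (t1 ^ 2)⁻¹ = y := by
        calc t1 ^ 2 * y * (t1 ^ 2)⁻¹ = t1 * (t1 * y * t1⁻¹) * t1⁻¹ := by rw [pow_two]; group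
          _ = y := by rw [ht1y, h1]
      exact mul_inv_eq_iff_eq_mul.1 this
    have h3 := mem_centralizer_singleton_iff.1 (pow_mem h2 j)
    calc t2 * y * t2⁻¹ = t1 * (((t1 ^ 2) ^ j * y) * ((t1 ^ 2) ^ j)⁻¹) * t1⁻¹ := by
          rw [ht2, hj, pow_succ', pow_mul]; group
      _ = y⁻¹ := by rw [h3, mul_inv_cancel_right, ht1y]
  obtain ⟨k, hk⟩ := mem_zpowers_iff.1 ht1w
  have ht2w : t2 * w * t2⁻¹ = w ^ k ^ m := by rw [ht2]; exact conj_pow_zpow hk.symm m
  have ht2e : t2 ^ 2 ^ e = 1 := by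
    rw [ht2, ← pow_mul, mul_comm, ← hem, pow_orderOf_eq_one]
  have hsq : t2 ^ 2 * w = w * t2 ^ 2 := by
    have h1 : t2 * w * t2⁻¹ ∈ zpowers w := by rw [ht2w]; exact zpow_mem (mem_zpowers w) _
    have h2 : (t2 ^ 2) ^ 3 ∈ centralizer ({w} : Set K) := by
      rw [← pow_mul]
      exact mem_centralizer_singleton_iff.2 (pow_six_comm h.w7 h1)
    have h3 : (t2 ^ 2) ^ 2 ^ e ∈ centralizer ({w} : Set K) := by
      rw [← pow_mul, mul_comm, pow_mul, ht2e, one_pow]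
      exact one_mem _
    exact mem_centralizer_singleton_iff.1 (mem_of_coprime_pow (Nat.Coprime.pow_right e (by norm_num)) h2 h3)
  -- `k ^ m` is `1` or `-1` modulo `7`
  obtain ⟨l, hl⟩ : ∃ l, l = k ^ m := ⟨_, rfl⟩
  rw [← hl] at ht2w
  have h1 := conj_pow_zpow ht2w 2
  have hwz : w ^ (7 : ℤ) = 1 := by exact_mod_cast h.w7
  have hmod : ∀ m : ℤ, w ^ m = w ^ (m % 7) := by
    intro m
    conv_lhs => rw [← Int.emod_add_mul_ediv m 7, zpow_add, zpow_mul, hwz, one_zpow, mul_one]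
  rw [hsq, mul_inv_cancel_right] at h1
  have hwo : orderOf w = 7 := orderOf_eq_prime h.w7 h.w1
  have h2 : (7 : ℤ) ∣ l ^ 2 - 1 := by
    have h3 : w ^ (l ^ 2 - 1) = 1 := by rw [zpow_sub, zpow_one, ← h1, mul_inv_cancel]
    have := orderOf_dvd_iff_zpow_eq_one.2 h3
    rw [hwo] at this
    exact this
  have h3 : l % 7 = 1 ∨ l % 7 = 6 := by
    have h4 : l % 7 = 0 ∨ l % 7 = 1 ∨ l % 7 = 2 ∨ l % 7 = 3 ∨ l % 7 = 4 ∨ l % 7 = 5 ∨ l % 7 = 6 := by omega
    have h5 : (l ^ 2 - 1) % 7 = 0 := Int.emod_eq_zero_of_dvd h2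
    have h6 : (l ^ 2 - 1) % 7 = ((l % 7) ^ 2 - 1) % 7 := by
      have : l ^ 2 - 1 ≡ (l % 7) ^ 2 - 1 [ZMOD 7] := ((Int.mod_modEq l 7).symm.pow 2).sub_right 1
      exact this
    rw [h6] at h5
    rcases h4 with h4 | h4 | h4 | h4 | h4 | h4 | h4 <;> rw [h4] at h5 <;> norm_num at h5 <;> simp [h4]
  rcases h3 with h3 | h3
  · refine ⟨t2, ht2y, ?_⟩
    rw [hmod, h3, zpow_one, mul_inv_eq_iff_eq_mul] at ht2w
    exact ht2w
  · have h4 : t2 * w * t2⁻¹ = w⁻¹ := by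
      rw [ht2w, hmod, h3]
      rw [eq_inv_iff_mul_eq_one, ← zpow_add_one]
      norm_num
      exact h.w7
    refine ⟨a * a * t2, ?_, ?_⟩
    · have h5 : a * y⁻¹ = y⁻¹ * a := ((show Commute a y from h.ya).inv_right).eq
      calc a * a * t2 * y * (a * a * t2)⁻¹ = a * a * (t2 * y * t2⁻¹) * a⁻¹ * a⁻¹ := by group
        _ = a * (a * y⁻¹) * a⁻¹ * a⁻¹ := by rw [ht2y]; group
        _ = a * (y⁻¹ * a) * a⁻¹ * a⁻¹ := by rw [h5]
        _ = (a * y⁻¹) * a⁻¹ := by group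
        _ = y⁻¹ := by rw [h5, mul_inv_cancel_right]
    · have h5 : a * a * t2 * w * (a * a * t2)⁻¹ = w := by
        calc a * a * t2 * w * (a * a * t2)⁻¹ = (a * a) * (t2 * w * t2⁻¹) * (a * a)⁻¹ := by group
          _ = (a * a) * w⁻¹ * (a * a)⁻¹ := by rw [h4]
          _ = ((a * a) * w * (a * a)⁻¹)⁻¹ := by rw [conj_inv]
          _ = w := by rw [h.aaw, inv_inv]
      exact mul_inv_eq_iff_eq_mul.1 h5

end Main

end Cfsg.Agent.H961.SevLift
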