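import Cfsg.Agent.H961.LineChar
import Cfsg.Agent.S0157

/-!
# The Steinberg character of `PSL₂(q)` (helper961)
-/

set_option autoImplicit false

namespace Cfsg.Agent.H961.SteinPSL2

open Cfsg MulAction

theorem two_trans (F : Type*) [Field F] :
    IsMultiplyPretransitive (Matrix.ProjectiveSpecialLinearGroup (Fin 2) F)
      (Projectivization F (Fin 2 → F)) 2 :=
  let f : Projectivization F (Fin 2 → F) →ₑ[(QuotientGroup.mk' (Subgroup.center (Matrix.SpecialLinearGroup (Fin 2) F)) :
      Matrix.SpecialLinearGroup (Fin 2) F →* Matrix.ProjectiveSpecialLinearGroup (Fin 2) F)]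
      Projectivization F (Fin 2 → F) :=
    { toFun := id
      map_smul' _ _ := rfl }
  IsPretransitive.of_embedding (f := f) Function.surjective_id

theorem mem_degreePrimes {F : Type*} [Field F] [Finite F] {p : ℕ} (hp : p.Prime)
    (hF : Nat.card F = p) : p ∈ degreePrimes (Matrix.ProjectiveSpecialLinearGroup (Fin 2) F) := by
  have h2 := two_trans F
  have hc : Nat.card (Projectivization F (Fin 2 → F)) = p + 1 := by
    rw [Projectivization.card_of_finrank_two F (Fin 2 → F) (by simp), hF]
  have : Finite (Projectivization F (Fin 2 → F)) := Nat.finite_of_card_ne_zero (by omega)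
  have h1 : IsPretransitive (Matrix.ProjectiveSpecialLinearGroup (Fin 2) F)
      (Projectivization F (Fin 2 → F)) := isPretransitive_of_is_two_pretransitive
  have h3 := (S0157.result (Projectivization F (Fin 2 → F)) (by rw [hc]; have := hp.two_le; omega)).2 h2
  refine ⟨hp, p, ⟨⟨_, h3⟩, ?_⟩, dvd_rfl⟩
  apply LineChar.charDegree_eq
  have h4 : (fixedBy (Projectivization F (Fin 2 → F))
      (1 : Matrix.ProjectiveSpecialLinearGroup (Fin 2) F)) = Set.univ := fixedBy_one_eq_univ _ _
  change ((Nat.card ↥(fixedBy (Projectivization F (Fin 2 → F))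
      (1 : Matrix.ProjectiveSpecialLinearGroup (Fin 2) F)) : ℕ) : ℂ) - 1 = p
  rw [h4, Nat.card_univ, hc]
  push_cast
  ring

end Cfsg.Agent.H961.SteinPSL2
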